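import Cfsg.Agent.Lib.Presented.Ly.Perm

/-!
Kernel calculus on the 19530 points of G₂(5): images of single points, fixed-point sets of words, membership and
equality tests.
-/
set_option autoImplicit false
set_option maxRecDepth 100000

namespace CfsgLib.Presented.Ly.ThreeCent

/-- the number of points -/
abbrev NP : ℕ := LyPerm.rep.N

/-- bit `i` of `m`, cheap for the kernel -/
def bit (m i : ℕ) : Bool := Nat.beq (Nat.land (Nat.shiftRight m i) 1) 1

theorem bit_eq (m i : ℕ) : bit m i = m.testBit i := by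
  rw [Bool.eq_iff_iff]
  simp only [bit, Nat.testBit_eq_decide_div_mod_eq, decide_eq_true_eq]
  constructor
  · intro h
    have h' : (m >>> i) &&& 1 = 1 := Nat.eq_of_beq_eq_true h
    rwa [Nat.and_one_is_mod, Nat.shiftRight_eq_div_pow] at h'
  · intro h
    show Nat.beq ((m >>> i) &&& 1) 1 = true
    rw [Nat.and_one_is_mod, Nat.shiftRight_eq_div_pow, h]
    rfl

/-- one stage on one point -/
noncomputable def stageImg (s : Vec.Stage) (i : ℕ) : ℕ :=
  Vec.Stage.rec (motive := fun _ => ℕ) (fun d m =>
    cond (bit m i) (Nat.add i d) (cond (Nat.ble d i && bit m (Nat.sub i d)) (Nat.sub i d) i)) s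

theorem stageImg_eq {s : Vec.Stage} (h : s.ok = true) (i : ℕ) : stageImg s i = s.perm i := by
  show _ = s.swp i
  rw [Vec.Stage.swp, Vec.Stage.act_eq h i, Vec.Stage.act_eq h (i - s.d)]
  obtain ⟨d, m⟩ := s
  show cond (bit m i) (i + d) (cond (Nat.ble d i && bit m (i - d)) (i - d) i) = _
  rw [bit_eq, bit_eq]
  cases hb : m.testBit i
  · by_cases hd : d ≤ i
    · cases hb2 : m.testBit (i - d) <;> simp [hd, (show Nat.ble d i = true by rwa [Nat.ble_eq])]
    · have : Nat.ble d i = false := by
        rw [← Bool.not_eq_true, Nat.ble_eq]; exact hd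
      simp [hd, this]
  · simp

/-- stages on one point -/
noncomputable def netImg (l : List Vec.Stage) (i : ℕ) : ℕ :=
  List.rec (motive := fun _ => ℕ) i (fun s _ ih => Vec.force ih fun q => stageImg s q) l

theorem netImg_eq : ∀ {l : List Vec.Stage}, Vec.netOk l = true → ∀ i, netImg l i = Vec.netPerm l i
  | [], _, i => by simp [netImg, Vec.netPerm]
  | s :: l, h, i => by
    rw [Vec.netOk, List.all_cons, Bool.and_eq_true] at h
    show Vec.force (netImg l i) (fun q => stageImg s q) = _
    rw [Vec.force_eq, netImg_eq h.2, stageImg_eq h.1]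
    simp [Vec.netPerm]

/-- the image of a point under a word -/
noncomputable def img (w : List ℕ) (p : ℕ) : ℕ :=
  List.rec (motive := fun _ => ℕ) p (fun x _ ih => Vec.force ih fun q => netImg (LyPerm.rep.net x) q) w

theorem img_eq : ∀ (w : List ℕ) (p : ℕ), img w p = Vec.netPerm (LyPerm.rep.netW w) p
  | [], p => rfl
  | x :: w, p => by
    show Vec.force (img w p) (fun q => netImg (LyPerm.rep.net x) q) = _
    rw [Vec.force_eq, img_eq w, netImg_eq ((Rep.valid_spec rep_valid).2.2.1 x)]
    simp [Rep.netW, Vec.netPerm_append]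

/-- the letters are generators -/
def ok (w : List ℕ) : Bool := w.all fun x => Nat.blt x 10

theorem lt_of_ok {w : List ℕ} (h : ok w = true) : ∀ x ∈ w, x < 10 := by
  intro x hx
  have := List.all_eq_true.1 h x hx
  rwa [Nat.blt_eq] at this

/-- the point numbered `p` -/
def pt (p : ℕ) : Fin NP := ⟨p % NP, Nat.mod_lt _ (by decide +kernel)⟩

theorem pt_val {p : ℕ} (hp : p < NP) : (pt p : ℕ) = p := Nat.mod_eq_of_lt hp

theorem pt_self (i : Fin NP) : pt i = i := Fin.ext (pt_val i.2)

theorem pt_zero : pt 0 = pt0 := Fin.ext (pt_val (by decide +kernel))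

theorem phi_img {w : List ℕ} (h : ok w = true) (i : Fin NP) : (phi (evW ev w) i : ℕ) = img w i := by
  rw [phi_evW (lt_of_ok h), Rep.netW_perm rep_valid, img_eq]

theorem img_lt {w : List ℕ} (h : ok w = true) {p : ℕ} (hp : p < NP) : img w p < NP :=
  phi_img h ⟨p, hp⟩ ▸ (phi (evW ev w) ⟨p, hp⟩).2

theorem phi_pt {w : List ℕ} (h : ok w = true) {p : ℕ} (hp : p < NP) :
    phi (evW ev w) (pt p) = pt (img w p) := by
  apply Fin.ext
  rw [pt_val (img_lt h hp), phi_img h, pt_val hp]

theorem phi_injective : Function.Injective phi := by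
  rw [← MonoidHom.ker_eq_bot_iff]
  haveI := h5_simple
  refine (Subgroup.Normal.eq_bot_or_eq_top inferInstance).resolve_right fun h => ?_
  have hne : img [2] 0 ≠ 0 ∨ img [0] 0 ≠ 0 ∨ img [8] 0 ≠ 0 := by decide +kernel
  have htriv : ∀ w, ok w = true → img w 0 = 0 := fun w hw => by
    have hm : evW ev w ∈ phi.ker := h ▸ Subgroup.mem_top _
    have := phi_img hw pt0
    rw [MonoidHom.mem_ker.1 hm] at this
    simpa [pt0] using this.symm
  rcases hne with h1 | h1 | h1 <;> exact h1 (htriv _ (by decide +kernel))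

/-- union -/
noncomputable def orAll (l : List ℕ) : ℕ := List.rec (motive := fun _ => ℕ) 0 (fun p _ ih => Nat.lor p ih) l

theorem testBit_orAll : ∀ (l : List ℕ) (i : ℕ), (orAll l).testBit i = true ↔ ∃ v ∈ l, v.testBit i = true
  | [], i => by simp [orAll]
  | p :: l, i => by
    show (p ||| orAll l).testBit i = true ↔ _
    rw [Nat.testBit_or, Bool.or_eq_true, testBit_orAll l, List.exists_mem_cons_iff]

/-- the bit vector of a list of points -/
noncomputable def maskOf (l : List ℕ) : ℕ := orAll (l.map fun p => Nat.shiftLeft 1 p)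

theorem testBit_maskOf (l : List ℕ) (i : ℕ) : (maskOf l).testBit i = true ↔ i ∈ l := by
  rw [maskOf, testBit_orAll]
  constructor
  · rintro ⟨v, hv, h⟩
    obtain ⟨p, hp, rfl⟩ := List.mem_map.1 hv
    change (1 <<< p).testBit i = true at h
    rw [Nat.one_shiftLeft, Nat.testBit_two_pow, decide_eq_true_eq] at h
    exact h ▸ hp
  · intro h
    refine ⟨_, List.mem_map_of_mem h, ?_⟩
    show (1 <<< i).testBit i = true
    rw [Nat.one_shiftLeft, Nat.testBit_two_pow_self]

/-- the points moved by a word -/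
noncomputable def moved (w : List ℕ) : ℕ :=
  Nat.land (Vec.ones NP)
    (orAll ((Vec.slices LyPerm.rep.m).map fun s => Nat.xor s (Vec.applyNet (LyPerm.rep.netW w) s)))

/-- the word fixes exactly the listed points -/
noncomputable def fixIs (w l : List ℕ) : Bool :=
  ok w && Nat.beq (Nat.xor (moved w) (maskOf l)) (Vec.ones NP)

theorem fixIs_spec {w l : List ℕ} (h : fixIs w l = true) (j : Fin NP) :
    phi (evW ev w) j = j ↔ (j : ℕ) ∈ l := by
  rw [fixIs, Bool.and_eq_true] at h
  obtain ⟨hw, hb⟩ := h
  have hN := (Rep.valid_spec rep_valid).2.1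
  have e : (phi (evW ev w) j : ℕ) = Vec.netPerm (LyPerm.rep.netW w) j := by rw [phi_img hw, img_eq]
  have hb' := congrArg (fun v => v.testBit (j : ℕ)) (Nat.eq_of_beq_eq_true hb)
  change ((moved w) ^^^ maskOf l).testBit (j : ℕ) = (Vec.ones NP).testBit (j : ℕ) at hb'
  have hm : (moved w).testBit (j : ℕ) = true ↔ phi (evW ev w) j ≠ j := by
    show (Vec.ones NP &&& orAll _).testBit (j : ℕ) = true ↔ _
    rw [Nat.testBit_and, Vec.testBit_ones, decide_eq_true j.2, Bool.true_and, testBit_orAll]
    constructor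
    · rintro ⟨v, hv, hvj⟩ he
      obtain ⟨s, -, rfl⟩ := List.mem_map.1 hv
      change (s ^^^ _).testBit (j : ℕ) = true at hvj
      rw [Nat.testBit_xor, Vec.testBit_applyNet (Rep.netOk_netW rep_valid w), ← e, he, Bool.xor_self] at hvj
      exact Bool.noConfusion hvj
    · intro hne
      by_contra hcon
      push Not at hcon
      refine hne (Fin.ext (Vec.eq_of_slices (lt_of_lt_of_le (phi (evW ev w) j).2 hN) (lt_of_lt_of_le j.2 hN)
        fun s hs => ?_))
      have h0 := Bool.eq_false_iff.2 (hcon _ (List.mem_map_of_mem hs))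
      change (s ^^^ _).testBit (j : ℕ) = false at h0
      rw [Nat.testBit_xor, Vec.testBit_applyNet (Rep.netOk_netW rep_valid w), ← e] at h0
      revert h0
      cases s.testBit (j : ℕ) <;> cases s.testBit (phi (evW ev w) j : ℕ) <;> simp
  rw [Nat.testBit_xor, Vec.testBit_ones, decide_eq_true j.2] at hb'
  rw [← testBit_maskOf l, ← not_iff_not, ← ne_eq, ← hm]
  cases h1 : (moved w).testBit (j : ℕ) <;> cases h2 : (maskOf l).testBit (j : ℕ) <;> simp [h1, h2] at hb' ⊢

/-- the product of listed words -/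
def gW (gens : List (List ℕ)) (l : List ℕ) : List ℕ := l.flatMap fun i => gens.getD i []

theorem gW_mem {gens : List (List ℕ)} {U : Subgroup H5} (h : ∀ w ∈ gens, evW ev w ∈ U) :
    ∀ l : List ℕ, evW ev (gW gens l) ∈ U
  | [] => by simp [gW]
  | i :: l => by
    rw [gW, List.flatMap_cons, evW_append]
    refine U.mul_mem ?_ (gW_mem h l)
    rw [List.getD_eq_getElem?_getD]
    cases e : gens[i]? with
    | none => simp
    | some v => exact h v (List.mem_of_getElem? e)

theorem evW_inv {w : List ℕ} (hw : ok w = true) : evW ev (invWord LyH.alphabet w) = (evW ev w)⁻¹ :=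
  evW_invWord ev_good fun x hx => (lt_of_ok hw x hx).le

/-- the images of two points -/
noncomputable def key (w : List ℕ) (b c : ℕ) : ℕ := Nat.succ (Nat.add (Nat.mul 32768 (img w b)) (img w c))

theorem key_eq {u v : List ℕ} (hu : ok u = true) (hv : ok v = true) {b c : ℕ} (hb : b < NP) (hc : c < NP)
    (h : evW ev u = evW ev v) : key u b c = key v b c := by
  have hb1 := phi_img hu ⟨b, hb⟩
  have hb2 := phi_img hv ⟨b, hb⟩
  have hc1 := phi_img hu ⟨c, hc⟩
  have hc2 := phi_img hv ⟨c, hc⟩
  rw [h] at hb1 hc1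
  rw [key, key, ← hb1, hb2, ← hc1, hc2]

/-- strictly increasing -/
noncomputable def strictUp (l : List ℕ) : Bool :=
  List.rec (motive := fun _ => ℕ → Bool) (fun _ => true)
    (fun a _ ih m => Nat.blt m a && ih a) l 0

theorem pairwise_of_up : ∀ (l : List ℕ) (m : ℕ),
    (List.rec (motive := fun _ => ℕ → Bool) (fun _ => true) (fun a _ ih m => Nat.blt m a && ih a) l m) = true →
    l.Pairwise (· < ·) ∧ ∀ a ∈ l, m < a
  | [], m, _ => ⟨List.Pairwise.nil, fun a h => absurd h List.not_mem_nil⟩
  | a :: l, m, h => by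
    change (Nat.blt m a && _) = true at h
    rw [Bool.and_eq_true, Nat.blt_eq] at h
    obtain ⟨h1, h2⟩ := h
    obtain ⟨p, q⟩ := pairwise_of_up l a h2
    refine ⟨List.pairwise_cons.2 ⟨q, p⟩, fun b hb => ?_⟩
    rcases List.mem_cons.1 hb with rfl | hb
    · exact h1
    · exact h1.trans (q b hb)

theorem nodup_of_strictUp {l : List ℕ} (h : strictUp l = true) : l.Nodup :=
  (pairwise_of_up l 0 h).1.imp fun hab => ne_of_lt hab

/-- Words with distinct keys name distinct elements. -/
theorem card_ge {U : Set H5} [Finite U] {ws : List (List ℕ)} {b c : ℕ} (hb : b < NP) (hc : c < NP)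
    (hok : ∀ w ∈ ws, ok w = true) (hmem : ∀ w ∈ ws, evW ev w ∈ U)
    (hup : strictUp (ws.map fun w => key w b c) = true) : ws.length ≤ Nat.card U := by
  have hnd := nodup_of_strictUp hup
  have hf : Function.Injective fun i : Fin ws.length => (⟨evW ev ws[i], hmem _ (List.getElem_mem _)⟩ : U) := by
    intro i j h
    have e : evW ev ws[i] = evW ev ws[j] := congrArg Subtype.val h
    have hk := key_eq (hok _ (List.getElem_mem _)) (hok _ (List.getElem_mem _)) hb hc e
    have hi : (i : ℕ) < (ws.map fun w => key w b c).length := by simp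
    have hj : (j : ℕ) < (ws.map fun w => key w b c).length := by simp
    exact Fin.ext ((List.Nodup.getElem_inj_iff hnd (hi := hi) (hj := hj)).1 (by simpa using hk))
  simpa using Nat.card_le_card_of_injective _ hf

end CfsgLib.Presented.Ly.ThreeCent
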