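import Mathlib.GroupTheory.Sylow
import Mathlib.GroupTheory.SpecificGroups.Cyclic
import Mathlib.GroupTheory.Perm.Cycle.Type
import Mathlib.Tactic.NormNum.Prime

/-!
A group of order 7128 has a proper nontrivial subgroup that every automorphism fixes: used to exclude a regular
minimal normal subgroup of that order.
-/
set_option autoImplicit false

namespace CfsgLib.Presented.Ly.ThreeCent

variable {N : Type*} [Group N] [Finite N]

theorem card_eleven (h : Nat.card N = 7128) (P : Sylow 11 N) [Fact (Nat.Prime 11)] :
    Nat.card (P : Subgroup N) = 11 := by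
  rw [Sylow.card_eq_multiplicity, h, show (7128 : ℕ) = 11 * 648 from rfl,
    Nat.factorization_mul (by norm_num) (by norm_num), Finsupp.add_apply,
    (show Nat.Prime 11 by norm_num).factorization_self, Nat.factorization_eq_zero_of_not_dvd (by norm_num),
    Nat.add_zero, pow_one]

theorem num_eleven (h : Nat.card N = 7128) [Fact (Nat.Prime 11)] :
    Nat.card (Sylow 11 N) = 1 ∨ Nat.card (Sylow 11 N) = 12 := by
  obtain ⟨P⟩ := (inferInstance : Nonempty (Sylow 11 N))
  have h1 : Nat.card (Sylow 11 N) % 11 = 1 % 11 := card_sylow_modEq_one 11 N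
  have h2 : Nat.card (Sylow 11 N) ∣ 648 := by
    have h3 := P.card_dvd_index
    have h4 := (P : Subgroup N).card_mul_index
    rw [card_eleven h P, h] at h4
    rwa [show (P : Subgroup N).index = 648 by omega] at h3
  have h3 : Nat.card (Sylow 11 N) ∈ Nat.divisors 648 := Nat.mem_divisors.2 ⟨h2, by norm_num⟩
  have key : ∀ d ∈ Nat.divisors 648, d % 11 = 1 % 11 → d = 1 ∨ d = 12 := by decide +kernel
  exact key _ h3 h1

/-- The subgroup of the Sylow 11-subgroup normalizer acting trivially on it has order divisible by 3. -/
theorem card_centralizer_ge (h : Nat.card N = 7128) (h12 : Nat.card (Sylow 11 N) = 12) [Fact (Nat.Prime 11)]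
    (P : Sylow 11 N) : 3 ∣ Nat.card (Subgroup.centralizer ((P : Subgroup N) : Set N)) := by
  set Q : Subgroup N := (P : Subgroup N)
  have hQ : Nat.card Q = 11 := card_eleven h P
  have hn : Nat.card (Subgroup.normalizer (Q : Set N)) = 594 := by
    have e := P.card_eq_index_normalizer
    rw [h12] at e
    have := (Subgroup.normalizer (Q : Set N)).card_mul_index
    rw [h, show (Subgroup.normalizer (Q : Set N)).index = 12 from e.symm] at this
    omega
  have hd : Nat.card (Subgroup.normalizer (Q : Set N)) ∣
      Nat.card (Subgroup.centralizer (Q : Set N)) * 10 := by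
    let f := Subgroup.normalizerMonoidHom Q
    have h1 := f.ker.card_mul_index
    have hk : Nat.card f.ker = Nat.card (Subgroup.centralizer (Q : Set N)) := by
      rw [Subgroup.normalizerMonoidHom_ker]
      exact Nat.card_congr (Subgroup.subgroupOfEquivOfLe (Subgroup.centralizer_le_normalizer _)).toEquiv
    haveI : IsCyclic Q := isCyclic_of_prime_card hQ
    have ha : Nat.card (MulAut Q) = 10 := by
      rw [Nat.card_congr (IsCyclic.mulAutMulEquiv Q).toEquiv, Nat.card_eq_fintype_card, ZMod.card_units_eq_totient,
        hQ, Nat.totient_prime (by norm_num)]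
    have hr : f.ker.index ∣ 10 := by
      rw [Subgroup.index_ker, ← ha]
      exact Subgroup.card_subgroup_dvd_card _
    rw [← h1, hk]
    exact Nat.mul_dvd_mul_left _ hr
  rw [hn] at hd
  exact (show Nat.Coprime 3 10 by norm_num).dvd_of_dvd_mul_right ((show (3 : ℕ) ∣ 594 by norm_num).trans hd)

/-- A group of order 7128 has an invariant subgroup other than the trivial one and the whole. -/
theorem exists_invariant (h : Nat.card N = 7128) :
    ∃ M : Subgroup N, M ≠ ⊥ ∧ M ≠ ⊤ ∧ ∀ e : N ≃* N, M.map e.toMonoidHom = M := by
  haveI : Fact (Nat.Prime 11) := ⟨by norm_num⟩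
  haveI : Fact (Nat.Prime 3) := ⟨Nat.prime_three⟩
  obtain ⟨P⟩ := (inferInstance : Nonempty (Sylow 11 N))
  rcases num_eleven h with h1 | h12
  · haveI : Subsingleton (Sylow 11 N) := (Nat.card_eq_one_iff_unique.1 h1).1
    refine ⟨(P : Subgroup N), ?_, ?_, fun e => ?_⟩
    · intro hb
      have := card_eleven h P
      rw [hb, Subgroup.card_bot] at this
      norm_num at this
    · intro ht
      have := card_eleven h P
      rw [ht, Subgroup.card_top, h] at this
      norm_num at this
    · exact Subgroup.characteristic_iff_map_eq.1 (P.characteristic_of_subsingleton) e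
  set S : Subgroup N := Subgroup.closure {g | orderOf g = 11}
  have hinv : ∀ e : N ≃* N, S.map e.toMonoidHom = S := by
    intro e
    rw [MonoidHom.map_closure]
    congr 1
    ext g
    constructor
    · rintro ⟨a, ha, rfl⟩
      show orderOf (e a) = 11
      rwa [MulEquiv.orderOf_eq]
    · intro hg
      exact ⟨e.symm g, by show orderOf (e.symm g) = 11; rwa [MulEquiv.orderOf_eq], e.apply_symm_apply g⟩
  have hgen : ∀ R : Sylow 11 N, ∀ a ∈ (R : Subgroup N), a ∈ S := by
    intro R a ha
    rcases eq_or_ne a 1 with rfl | hne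
    · exact S.one_mem
    refine Subgroup.subset_closure ?_
    have hd := Subgroup.orderOf_dvd_natCard (R : Subgroup N) ha
    rw [card_eleven h R] at hd
    exact ((Nat.dvd_prime (by norm_num)).1 hd).resolve_left (mt orderOf_eq_one_iff.1 hne)
  by_cases hS : S = ⊤
  swap
  · refine ⟨S, ?_, hS, hinv⟩
    intro hb
    have hP : (P : Subgroup N) ≤ ⊥ := fun a ha => hb ▸ hgen P a ha
    have := card_eleven h P
    rw [le_bot_iff.1 hP, Subgroup.card_bot] at this
    norm_num at this
  refine ⟨Subgroup.center N, ?_, ?_, fun e => ?_⟩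
  rotate_left
  · intro ht
    haveI : Subsingleton (Sylow 11 N) := by
      have hc : ∀ a b : N, a * b = b * a := fun a b => (Subgroup.mem_center_iff.1 (ht ▸ Subgroup.mem_top a) b).symm
      refine ⟨fun A B => ?_⟩
      obtain ⟨g, rfl⟩ := MulAction.exists_smul_eq N A B
      refine Sylow.ext ?_
      rw [Sylow.coe_subgroup_smul]
      ext a
      constructor
      · exact fun ha => ⟨a, ha, by show g * a * g⁻¹ = a; rw [hc g a, mul_inv_cancel_right]⟩
      · rintro ⟨b, hb, rfl⟩
        show g * b * g⁻¹ ∈ _
        rwa [hc g b, mul_inv_cancel_right]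
    rw [Nat.card_of_subsingleton P] at h12
    norm_num at h12
  · exact Subgroup.characteristic_iff_map_eq.1 Subgroup.centerCharacteristic e
  -- an element of order 3 centralising every Sylow 11-subgroup
  obtain ⟨⟨r, hr⟩, hr3⟩ := exists_prime_orderOf_dvd_card' 3 (card_centralizer_ge h h12 P)
  rw [← Subgroup.orderOf_coe] at hr3
  change orderOf r = 3 at hr3
  have hfix : ∀ R : Sylow 11 N, r • R = R := by
    by_contra hcon
    push Not at hcon
    obtain ⟨R, hR⟩ := hcon
    obtain ⟨π, hπ⟩ : ∃ π : N, π ∈ (P : Subgroup N) ∧ π ≠ 1 := by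
      rcases Subgroup.bot_or_exists_ne_one (P : Subgroup N) with hb | hh
      · have := card_eleven h P
        rw [hb, Subgroup.card_bot] at this
        norm_num at this
      · exact hh
    have hcomm : Commute r π := (Subgroup.mem_centralizer_iff.1 hr π hπ.1).symm
    have hπ11 : orderOf π = 11 := by
      have hd := Subgroup.orderOf_dvd_natCard (P : Subgroup N) hπ.1
      rw [card_eleven h P] at hd
      exact ((Nat.dvd_prime (by norm_num)).1 hd).resolve_left (mt orderOf_eq_one_iff.1 hπ.2)
    have hPfix : r • P = P := by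
      rw [Sylow.smul_eq_iff_mem_normalizer]
      exact Subgroup.centralizer_le_normalizer _ hr
    have hπfix : ∀ A : Sylow 11 N, π • A = A → A = P := by
      intro A hA
      rw [Sylow.smul_eq_iff_mem_normalizer] at hA
      have hz : IsPGroup 11 (Subgroup.zpowers π) :=
        IsPGroup.of_card (n := 1) (by rw [Nat.card_zpowers, hπ11, pow_one])
      have hmem : π ∈ (A : Subgroup N) := by
        have h1 : Subgroup.zpowers π ≤ (A : Subgroup N) := by
          have hle : Subgroup.zpowers π ≤ Subgroup.normalizer ((A : Subgroup N) : Set N) := Subgroup.zpowers_le.2 hA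
          have e := hz.inf_normalizer_sylow A
          change Subgroup.zpowers π ⊓ Subgroup.normalizer ((A : Subgroup N) : Set N) = _ at e
          rw [inf_eq_left.2 hle] at e
          exact e ▸ inf_le_right
        exact h1 (Subgroup.mem_zpowers π)
      refine Sylow.ext (Subgroup.eq_of_le_of_card_ge ?_ (by rw [card_eleven h A, card_eleven h P])).symm
      have hz2 : Subgroup.zpowers π = (P : Subgroup N) :=
        Subgroup.eq_of_le_of_card_ge (Subgroup.zpowers_le.2 hπ.1) (by rw [card_eleven h P, Nat.card_zpowers, hπ11])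
      exact hz2 ▸ Subgroup.zpowers_le.2 hmem
    have hRP : R ≠ P := fun e => hR (e ▸ hPfix)
    set σ : Equiv.Perm (Sylow 11 N) := MulAction.toPermHom N (Sylow 11 N) π
    set τ : Equiv.Perm (Sylow 11 N) := MulAction.toPermHom N (Sylow 11 N) r
    have hstc : Commute τ σ := hcomm.map _
    -- the orbit of R under the element of order 11 is everything but P
    have horb : MulAction.orbit (Subgroup.zpowers π) R = {A | A ≠ P} := by
      refine Set.eq_of_subset_of_ncard_le ?_ ?_ (Set.toFinite _)
      · rintro A ⟨⟨q, i, rfl⟩, rfl⟩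
        intro hA
        apply hRP
        have hPπ : ∀ j : ℤ, π ^ j • P = P := fun j => by
          rw [Sylow.smul_eq_iff_mem_normalizer]
          exact Subgroup.le_normalizer ((P : Subgroup N).zpow_mem hπ.1 j)
        calc R = (π ^ i)⁻¹ • (π ^ i • R) := (inv_smul_smul _ _).symm
          _ = P := by
            rw [show (π ^ i • R : Sylow 11 N) = P from hA, ← zpow_neg]
            exact hPπ (-i)
      · have hz : IsPGroup 11 (Subgroup.zpowers π) :=
          IsPGroup.of_card (n := 1) (by rw [Nat.card_zpowers, hπ11, pow_one])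
        obtain ⟨k, hk⟩ := hz.card_orbit (α := Sylow 11 N) R
        have hc : ({A | A ≠ P} : Set (Sylow 11 N)).ncard = 11 := by
          have := Set.ncard_compl ({P} : Set (Sylow 11 N))
          rw [h12, Set.ncard_singleton] at this
          exact this
        rw [hc]
        rcases Nat.eq_zero_or_pos k with rfl | hk0
        · exfalso
          rw [pow_zero, Nat.card_eq_one_iff_unique] at hk
          refine hRP (hπfix R ?_)
          have := @Subsingleton.elim _ hk.1 ⟨(⟨π, Subgroup.mem_zpowers π⟩ : Subgroup.zpowers π) • R, MulAction.mem_orbit _ _⟩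
            ⟨R, MulAction.mem_orbit_self R⟩
          exact congrArg Subtype.val this
        · rw [← Nat.card_coe_set_eq, hk]
          exact Nat.le_self_pow (by omega) 11
    have hrR : r • R ∈ MulAction.orbit (Subgroup.zpowers π) R := by
      rw [horb]
      intro e
      exact hRP (by rw [← inv_smul_smul r R, e]; exact inv_smul_eq_iff.2 hPfix.symm)
    obtain ⟨⟨q, k, rfl⟩, hk⟩ := hrR
    change π ^ k • R = r • R at hk
    have hiter : ∀ j : ℕ, r ^ j • R = π ^ (k * j) • R := by
      intro j
      induction j with
      | zero => simp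
      | succ j ih =>
        rw [pow_succ', mul_smul, ih, ← mul_smul, (hcomm.zpow_right _).eq, mul_smul, ← hk, ← mul_smul, ← zpow_add]
        congr 2
        push_cast
        ring
    have h3 := hiter 3
    rw [show r ^ 3 = 1 by rw [← hr3]; exact pow_orderOf_eq_one r, one_smul,
      show k * ((3 : ℕ) : ℤ) = 3 * k by rw [mul_comm]; rfl] at h3
    have e11 : π ^ (11 : ℤ) = 1 := by
      have := pow_orderOf_eq_one π
      rw [hπ11] at this
      exact_mod_cast this
    have this : π ^ k • R = R := by
      have e4 : π ^ (3 * k + 3 * k + 3 * k + 3 * k) • R = R := by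
        simp only [zpow_add, mul_smul, ← h3]
      rw [show 3 * k + 3 * k + 3 * k + 3 * k = 11 * k + k by ring, zpow_add, zpow_mul, e11, one_zpow, one_mul] at e4
      exact e4
    exact hR (hk.symm.trans this)
  have hcen : r ∈ Subgroup.center N := by
    rw [Subgroup.mem_center_iff]
    intro g
    have hg : g ∈ S := hS ▸ Subgroup.mem_top g
    induction hg using Subgroup.closure_induction with
    | mem a ha =>
      have hz : IsPGroup 11 (Subgroup.zpowers a) :=
        IsPGroup.of_card (n := 1) (by rw [Nat.card_zpowers, show orderOf a = 11 from ha, pow_one])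
      obtain ⟨R, hR⟩ := hz.exists_le_sylow
      have hnorm : r ∈ Subgroup.normalizer ((R : Subgroup N) : Set N) :=
        Sylow.smul_eq_iff_mem_normalizer.1 (hfix R)
      haveI : IsCyclic (R : Subgroup N) := isCyclic_of_prime_card (card_eleven h R)
      set f := Subgroup.normalizerMonoidHom (R : Subgroup N)
      have h1 : orderOf (f ⟨r, hnorm⟩) ∣ 3 := by
        refine (orderOf_map_dvd f _).trans ?_
        rw [Subgroup.orderOf_mk, hr3]
      have h2 : orderOf (f ⟨r, hnorm⟩) ∣ 10 := by
        refine (orderOf_dvd_natCard _).trans ?_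
        rw [Nat.card_congr (IsCyclic.mulAutMulEquiv (R : Subgroup N)).toEquiv, Nat.card_eq_fintype_card,
          ZMod.card_units_eq_totient, card_eleven h R, Nat.totient_prime (by norm_num)]
      have h3 : f ⟨r, hnorm⟩ = 1 := orderOf_eq_one_iff.1 (Nat.dvd_one.1
        ((show Nat.gcd 3 10 = 1 by norm_num) ▸ Nat.dvd_gcd h1 h2))
      have h4 : (⟨r, hnorm⟩ : Subgroup.normalizer ((R : Subgroup N) : Set N)) ∈ f.ker := h3
      rw [Subgroup.normalizerMonoidHom_ker] at h4
      exact Subgroup.mem_centralizer_iff.1 h4 a (hR (Subgroup.mem_zpowers a))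
    | one => simp
    | mul a b _ _ ha hb => rw [mul_assoc, hb, ← mul_assoc, ha, mul_assoc]
    | inv a _ ha => exact ((show Commute a r from ha).inv_left).eq
  intro hb
  rw [hb, Subgroup.mem_bot] at hcen
  rw [hcen, orderOf_one] at hr3
  norm_num at hr3

end CfsgLib.Presented.Ly.ThreeCent
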