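import Cfsg.Agent.Lib.Presented.Ly.ThreeCent.Base

/-!
A normal subgroup of the centralizer in G₂(5) lies in the subgroup of order 3 or is everything.
-/
set_option autoImplicit false
set_option maxRecDepth 100000
set_option Elab.async false

namespace CfsgLib.Presented.Ly.ThreeCent

open ThreeCentData (X gens tab path blk blkRep order500 wit nrm)

/-- the block of a fixed point -/
def bk (i : Fin 252) : ℕ := blk.getD i.val 0

theorem blk_table : (List.range 6).all (fun a => (List.finRange 252).all fun i =>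
    Nat.beq (bk (tb a i)) (bk (tb a (Fin.ofNat 252 (blkRep.getD (bk i) 0))))) = true := by decide +kernel

theorem bk_tb {a : ℕ} (ha : a < 6) {i j : Fin 252} (h : bk i = bk j) : bk (tb a i) = bk (tb a j) := by
  have t := fun i => Nat.eq_of_beq_eq_true
    (List.all_eq_true.1 (List.all_eq_true.1 blk_table a (List.mem_range.2 ha)) i (List.mem_finRange i))
  rw [t i, t j, h]

theorem bk_tbl : ∀ {l : List ℕ}, (∀ a ∈ l, a < 6) → ∀ {i j : Fin 252}, bk i = bk j → bk (tbl l i) = bk (tbl l j)
  | [], _, i, j, h => h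
  | a :: l, hl, i, j, h =>
    bk_tb (hl a List.mem_cons_self) (bk_tbl (fun b hb => hl b (List.mem_cons_of_mem _ hb)) h)

theorem path_lt (i : Fin 252) : ∀ a ∈ path.getD i.val [], a < 6 := by
  have h := List.all_eq_true.1 path_table i (List.mem_finRange i)
  simp only [Bool.and_eq_true, List.all_eq_true, Nat.blt_eq] at h
  exact h.1

theorem act_coords {g : C0} {i : Fin 252} {p : Fin 500 × Fin 3} (h : (g : H5) = (rep i : H5) * (ckEl p : H5))
    (j : Fin 252) : actFun g j = tbl (path.getD i.val []) (tbl (elL (qf p.1)) j) :=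
  fp_injective (by rw [actFun_spec, h, map_mul, Equiv.Perm.mul_apply, ckEl_act, rep, gEl_act _ (path_lt i)])

/-- Every element permutes the blocks. -/
theorem bk_act (g : C0) {j k : Fin 252} (h : bk j = bk k) : bk (actFun g j) = bk (actFun g k) := by
  obtain ⟨i, p, hg⟩ := exists_coords g
  rw [act_coords hg, act_coords hg]
  exact bk_tbl (path_lt i) (bk_tbl (qf_spec p.1).2.1 h)

theorem act_gEl {l : List ℕ} (hl : ∀ a ∈ l, a < 6) (j : Fin 252) : actFun (gEl l) j = tbl l j :=
  fp_injective (by rw [actFun_spec, gEl_act l hl])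

/-- the other element of the base block -/
def i0' : Fin 252 := Fin.ofNat 252 1

theorem block_zero : ∀ i : Fin 252, bk i = bk (Fin.ofNat 252 0) → i = Fin.ofNat 252 0 ∨ i = i0' := by decide +kernel

theorem swap_table : tbl [1] (Fin.ofNat 252 0) = i0' ∧ bk i0' = bk (Fin.ofNat 252 0) := by decide +kernel

/-- An element preserving the base block. -/
theorem block_stab {g : C0} (h : bk (actFun g (Fin.ofNat 252 0)) = bk (Fin.ofNat 252 0)) :
    ∃ (s : Bool) (p : Fin 500 × Fin 3), (g : H5) = (gEl (cond s [1] []) : H5) * (ckEl p : H5) := by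
  have hlt : ∀ s : Bool, ∀ a ∈ cond s [1] [], a < 6 := by decide
  have key : ∀ s : Bool, actFun g (Fin.ofNat 252 0) = tbl (cond s [1] []) (Fin.ofNat 252 0) →
      ∃ p, (g : H5) = (gEl (cond s [1] []) : H5) * (ckEl p : H5) := by
    intro s hs
    have hm : ((gEl (cond s [1] []) : H5))⁻¹ * (g : H5) ∈ CK := mem_CK.2
      ⟨C0.mul_mem (C0.inv_mem (gEl _).2) g.2, by
        rw [map_mul, Equiv.Perm.mul_apply, ← fp_zero, ← actFun_spec, hs, ← gEl_act _ (hlt s), map_inv,
          Equiv.Perm.inv_def, Equiv.symm_apply_apply]⟩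
    obtain ⟨p, hp⟩ := ckEl_surjective ⟨_, hm⟩
    exact ⟨p, by rw [hp]; exact (mul_inv_cancel_left _ _).symm⟩
  rcases block_zero _ h with e | e
  · exact ⟨false, key false e⟩
  · exact ⟨true, key true (e.trans swap_table.1.symm)⟩

theorem move_table : (order500.all fun q => [false, true].all fun s =>
    (!s && Nat.beq q 0) ||
      !(Nat.beq (bk (tbl (cond s [1] [] ++ elL q) (Fin.ofNat 252 2))) (bk (Fin.ofNat 252 2)) &&
        Nat.beq (bk (tbl (cond s [1] [] ++ elL q) (Fin.ofNat 252 3))) (bk (Fin.ofNat 252 3)))) = true := by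
  decide +kernel

/-- the subgroup of order 3 -/
noncomputable def Zx : Subgroup C0 := Subgroup.zpowers ⟨x, x_mem⟩

theorem kernel_le {g : C0} (h : ∀ j, bk (actFun g j) = bk j) : g ∈ Zx := by
  obtain ⟨s, p, hg⟩ := block_stab (h _)
  have ht : ∀ j, actFun g j = tbl (cond s [1] [] ++ elL (qf p.1)) j := fun j => fp_injective (by
    rw [actFun_spec, hg, map_mul, Equiv.Perm.mul_apply, ckEl_act, gEl_act _ (by cases s <;> decide)]
    rw [tbl, tbl, tbl, List.foldr_append])
  have hmem : qf p.1 ∈ order500 := by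
    rw [qf, List.getD_eq_getElem _ _ (forms_ok.1.symm ▸ p.1.2)]
    exact List.getElem_mem _
  have hb := List.all_eq_true.1 (List.all_eq_true.1 move_table _ hmem) s (by cases s <;> simp)
  have e2 := h (Fin.ofNat 252 2)
  have e3 := h (Fin.ofNat 252 3)
  rw [ht] at e2 e3
  rw [e2, e3] at hb
  simp only [Nat.beq_refl, Bool.and_self, Bool.not_true, Bool.or_false, Bool.and_eq_true, Bool.not_eq_true'] at hb
  obtain ⟨hs, hq⟩ := hb
  have hq' : qf p.1 = 0 := Nat.eq_of_beq_eq_true hq
  refine Subgroup.mem_zpowers_iff.2 ⟨(p.2.val : ℤ), Subtype.ext ?_⟩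
  rw [zpow_natCast, SubgroupClass.coe_pow, hg, hs]
  show x ^ p.2.val = (gEl [] : H5) * ((gEl (elL (qf p.1)) : H5) * x ^ p.2.val)
  rw [hq']
  show x ^ p.2.val = evW ev (gW gens []) * (evW ev (gW gens (elL 0)) * x ^ p.2.val)
  rw [show gW gens [] = [] from rfl, show gW gens (elL 0) = [] by decide +kernel, evW_nil, one_mul, one_mul]

/-- the lists used to move from one block to all others -/
def regL (q : ℕ) : List ℕ := List.replicate (q / 25) 3 ++ List.replicate (q / 5 % 5) 4 ++ List.replicate (q % 5) 5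

theorem reg_table : ((List.finRange 252).all fun i => Nat.beq (bk i) (bk (Fin.ofNat 252 0)) ||
    ((List.range 125).any fun q => Nat.beq (bk (tbl (regL q) (Fin.ofNat 252 2))) (bk i))) = true := by decide +kernel

theorem reg_fix : ((List.range 125).all fun q => (regL q).all (fun a => Nat.blt a 6) &&
    Nat.beq (tbl (regL q) (Fin.ofNat 252 0)).val 0) = true := by decide +kernel

/-- the element of the normal cyclic subgroup -/
noncomputable def v : C0 := gEl [3]

theorem nrm_table : ([1, 2, 3, 4, 5].all fun a =>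
    sameWord (gens.getD a [] ++ gens.getD 3 []) (gW gens (List.replicate (nrm.getD a 0) 3) ++ gens.getD a [])) = true ∧
    sameWord (gW gens [3, 3, 3, 3, 3]) [] = true ∧
    sameWord (gens.getD 1 [] ++ gens.getD 3 []) (gW gens [3, 3, 3] ++ gens.getD 1 []) = true := by decide +kernel

theorem gW_append (l l' : List ℕ) : gW gens (l ++ l') = gW gens l ++ gW gens l' := List.flatMap_append

theorem gEl_append (l l' : List ℕ) : gEl (l ++ l') = gEl l * gEl l' :=
  Subtype.ext (show evW ev (gW gens (l ++ l')) = _ by rw [gW_append, evW_append]; rfl)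

theorem gEl_replicate : ∀ n : ℕ, gEl (List.replicate n 3) = v ^ n
  | 0 => Subtype.ext (by simp [gEl, gW])
  | n + 1 => by rw [List.replicate_succ', gEl_append, gEl_replicate n, pow_succ]; rfl

theorem gEl_single (a : ℕ) : (gEl [a] : H5) = evW ev (gens.getD a []) := by
  show evW ev (gW gens [a]) = _
  rw [gW, List.flatMap_cons, List.flatMap_nil, List.append_nil]

theorem conj_gen {a : ℕ} (ha : a ∈ [1, 2, 3, 4, 5]) : ∃ n : ℕ, gEl [a] * v = v ^ n * gEl [a] := by
  refine ⟨nrm.getD a 0, Subtype.ext ?_⟩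
  have h := sameWord_sound (List.all_eq_true.1 nrm_table.1 a ha)
  rw [evW_append, evW_append] at h
  rw [← gEl_replicate]
  show (gEl [a] : H5) * (gEl [3] : H5) = evW ev (gW gens _) * (gEl [a] : H5)
  rw [gEl_single, gEl_single]
  exact h

theorem conj_pow {h : C0} {n : ℕ} (e : h * v = v ^ n * h) (k : ℕ) : h * v ^ k = v ^ (n * k) * h := by
  induction k with
  | zero => simp
  | succ k ih => rw [pow_succ, ← mul_assoc, ih, mul_assoc, e, ← mul_assoc, ← pow_add, Nat.mul_succ]

theorem conj_list : ∀ {l : List ℕ}, (∀ a ∈ l, a ∈ [1, 2, 3, 4, 5]) → ∃ n : ℕ, gEl l * v = v ^ n * gEl l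
  | [], _ => ⟨1, by
    rw [show gEl [] = 1 from Subtype.ext (show evW ev (gW gens []) = 1 from rfl), one_mul, mul_one, pow_one]⟩
  | a :: l, hl => by
    obtain ⟨n, hn⟩ := conj_list (l := l) fun b hb => hl b (List.mem_cons_of_mem _ hb)
    obtain ⟨m, hm⟩ := conj_gen (hl a List.mem_cons_self)
    refine ⟨m * n, ?_⟩
    rw [show a :: l = [a] ++ l from rfl, gEl_append, mul_assoc, hn, ← mul_assoc, conj_pow hm, mul_assoc]

theorem x_comm (g : C0) : g * ⟨x, x_mem⟩ = ⟨x, x_mem⟩ * g := Subtype.ext (mem_C0.1 g.2).eq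

theorem conj_stab {g : C0} (h : bk (actFun g (Fin.ofNat 252 0)) = bk (Fin.ofNat 252 0)) :
    ∃ n : ℕ, g * v = v ^ n * g := by
  obtain ⟨s, p, hg⟩ := block_stab h
  have hl : ∀ a ∈ cond s [1] [] ++ elL (qf p.1), a ∈ [1, 2, 3, 4, 5] := by
    intro a ha
    rcases List.mem_append.1 ha with ha | ha
    · cases s <;> simp at ha ⊢ <;> simp [ha]
    · simp only [elL, List.mem_append, List.mem_replicate] at ha
      rcases ha with ((⟨-, rfl⟩ | ⟨-, rfl⟩) | ⟨-, rfl⟩) | ⟨-, rfl⟩ <;> simp
  obtain ⟨n, hn⟩ := conj_list hl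
  refine ⟨n, ?_⟩
  have e : g = gEl (cond s [1] [] ++ elL (qf p.1)) * ⟨x, x_mem⟩ ^ p.2.val := Subtype.ext (by
    rw [hg, gEl_append, Subgroup.coe_mul, Subgroup.coe_mul, SubgroupClass.coe_pow, mul_assoc]
    rfl)
  rw [e, mul_assoc, ((show Commute v ⟨x, x_mem⟩ from x_comm v).pow_right _).symm.eq, ← mul_assoc, hn, mul_assoc]

theorem wit_table : wit.length = 7 ∧ ((List.range 7).all fun a => (wit.getD a []).all (fun c => ok c.1 &&
      sameWord (c.1 ++ X) (X ++ c.1)) &&
    sameWord (if a = 6 then X else gens.getD a [])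
      ((wit.getD a []).flatMap fun c => c.1 ++ cond c.2 (gens.getD 3 []) (invWord LyH.alphabet (gens.getD 3 [])) ++
        invWord LyH.alphabet c.1)) = true := by decide +kernel

/-- A normal subgroup is central or everything. -/
theorem normal_cases {M : Subgroup C0} (hM : M.Normal) : M ≤ Zx ∨ M = ⊤ := by
  by_cases hall : ∀ m ∈ M, bk (actFun m (Fin.ofNat 252 0)) = bk (Fin.ofNat 252 0)
  · refine Or.inl fun m hm => kernel_le fun j => ?_
    have hc := hall _ (hM.conj_mem m hm (rep j)⁻¹)
    rw [inv_inv, actFun_mul, actFun_mul] at hc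
    have hj : actFun (rep j) (Fin.ofNat 252 0) = j := fp_injective (by rw [actFun_spec, fp_zero, rep_spec])
    rw [hj] at hc
    have := bk_act (rep j) hc
    rwa [← actFun_mul, mul_inv_cancel, actFun_one, hj] at this
  push Not at hall
  obtain ⟨m, hm, hne⟩ := hall
  set b0 := Fin.ofNat 252 0 with hb0
  -- the subgroup is transitive on the blocks
  have htrans : ∀ i : Fin 252, ∃ m' ∈ M, bk (actFun m' b0) = bk i := by
    intro i
    by_cases hi : bk i = bk b0
    · exact ⟨1, M.one_mem, by rw [actFun_one, hi]⟩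
    have hreg : ∀ k : Fin 252, bk k ≠ bk b0 → ∃ q, q < 125 ∧ bk (tbl (regL q) (Fin.ofNat 252 2)) = bk k := by
      intro k hk
      have h := List.all_eq_true.1 reg_table k (List.mem_finRange k)
      rw [Bool.or_eq_true, List.any_eq_true] at h
      rcases h with h | ⟨q, hq, h⟩
      · exact absurd (Nat.eq_of_beq_eq_true h) hk
      · exact ⟨q, List.mem_range.1 hq, Nat.eq_of_beq_eq_true h⟩
    have hfix : ∀ q < 125, (∀ a ∈ regL q, a < 6) ∧ tbl (regL q) b0 = b0 := by
      intro q hq
      have h := List.all_eq_true.1 reg_fix q (List.mem_range.2 hq)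
      simp only [Bool.and_eq_true, List.all_eq_true, Nat.blt_eq] at h
      exact ⟨h.1, Fin.ext (Nat.eq_of_beq_eq_true h.2)⟩
    obtain ⟨q1, hq1, e1⟩ := hreg (actFun m b0) hne
    obtain ⟨q2, hq2, e2⟩ := hreg i hi
    set w := gEl (regL q2) * (gEl (regL q1))⁻¹
    have hw : actFun w b0 = b0 := by
      have h1 : actFun (gEl (regL q1))⁻¹ b0 = b0 := by
        conv_lhs => rw [← (hfix q1 hq1).2, ← act_gEl (hfix q1 hq1).1, ← actFun_mul, inv_mul_cancel, actFun_one]
      rw [actFun_mul, h1, act_gEl (hfix q2 hq2).1, (hfix q2 hq2).2]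
    have hw' : actFun w⁻¹ b0 = b0 := by
      conv_lhs => rw [← hw, ← actFun_mul, inv_mul_cancel, actFun_one]
    refine ⟨w * m * w⁻¹, hM.conj_mem m hm w, ?_⟩
    rw [actFun_mul, hw', actFun_mul]
    have e3 : bk (actFun (gEl (regL q1))⁻¹ (actFun m b0)) = bk (Fin.ofNat 252 2) := by
      have := bk_act (gEl (regL q1))⁻¹ e1
      rw [← act_gEl (hfix q1 hq1).1, ← actFun_mul, inv_mul_cancel, actFun_one] at this
      exact this.symm
    rw [actFun_mul, bk_act _ e3, act_gEl (hfix q2 hq2).1, e2]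
  set S : Subgroup C0 := M ⊔ Subgroup.zpowers v
  have hv : v ∈ S := Subgroup.mem_sup_right (Subgroup.mem_zpowers v)
  have hconj : ∀ g : C0, g * v * g⁻¹ ∈ S := by
    intro g
    obtain ⟨m', hm', he⟩ := htrans (actFun g b0)
    have hb : bk (actFun (m'⁻¹ * g) b0) = bk b0 := by
      rw [actFun_mul, bk_act m'⁻¹ he.symm, ← actFun_mul, inv_mul_cancel, actFun_one]
    obtain ⟨n, hn⟩ := conj_stab hb
    have : g * v * g⁻¹ = m' * v ^ n * m'⁻¹ := by
      calc g * v * g⁻¹ = m' * ((m'⁻¹ * g) * v) * g⁻¹ := by group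
        _ = m' * (v ^ n * (m'⁻¹ * g)) * g⁻¹ := by rw [hn]
        _ = m' * v ^ n * m'⁻¹ := by group
    rw [this]
    exact S.mul_mem (S.mul_mem (Subgroup.mem_sup_left hm') (S.pow_mem hv n))
      (S.inv_mem (Subgroup.mem_sup_left hm'))
  have hwit : ∀ a < 7, ∀ g : C0, (g : H5) = evW ev (if a = 6 then X else gens.getD a []) → g ∈ S := by
    intro a ha g hg
    have h := List.all_eq_true.1 wit_table.2 a (List.mem_range.2 ha)
    simp only [Bool.and_eq_true, List.all_eq_true] at h
    obtain ⟨hc, hs⟩ := h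
    have hv3 : ok (gens.getD 3 []) = true := (gens_ok.2 3).1
    have key : ∀ l : List (List ℕ × Bool), (∀ c ∈ l, ok c.1 = true ∧ sameWord (c.1 ++ X) (X ++ c.1) = true) →
        ∃ g' ∈ S, (g' : H5) = evW ev (l.flatMap fun c => c.1 ++ cond c.2 (gens.getD 3 [])
          (invWord LyH.alphabet (gens.getD 3 [])) ++ invWord LyH.alphabet c.1) := by
      intro l
      induction l with
      | nil => exact fun _ => ⟨1, S.one_mem, rfl⟩
      | cons c l ih =>
        intro hl
        obtain ⟨g', hg', e'⟩ := ih fun d hd => hl d (List.mem_cons_of_mem _ hd)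
        obtain ⟨ho, hcx⟩ := hl c List.mem_cons_self
        have hx := sameWord_sound hcx
        rw [evW_append, evW_append] at hx
        let w : C0 := ⟨evW ev c.1, mem_C0.2 hx⟩
        refine ⟨cond c.2 (w * v * w⁻¹) (w * v * w⁻¹)⁻¹ * g', S.mul_mem ?_ hg', ?_⟩
        · cases c.2
          · exact S.inv_mem (hconj w)
          · exact hconj w
        · rw [List.flatMap_cons, evW_append, Subgroup.coe_mul, e']
          congr 1
          cases hb : c.2
          · rw [evW_append, evW_append, cond_false, cond_false, evW_inv ho, evW_inv hv3, ← gEl_single]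
            show ((evW ev c.1) * (gEl [3] : H5) * (evW ev c.1)⁻¹)⁻¹ = _
            group
          · rw [evW_append, evW_append, cond_true, cond_true, evW_inv ho, ← gEl_single]
            rfl
    obtain ⟨g', hg', e⟩ := key (wit.getD a []) fun c hc' => ⟨(hc c hc').1, (hc c hc').2⟩
    rwa [show g = g' from Subtype.ext (hg.trans ((sameWord_sound hs).trans e.symm))]
  have hgen : ∀ l : List ℕ, (∀ a ∈ l, a < 6) → gEl l ∈ S := by
    intro l
    induction l with
    | nil => exact fun _ => by rw [show gEl [] = 1 from Subtype.ext rfl]; exact S.one_mem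
    | cons a l ih =>
      intro hl
      rw [show a :: l = [a] ++ l from rfl, gEl_append]
      have ha := hl a List.mem_cons_self
      refine S.mul_mem (hwit a (by omega) _ ?_) (ih fun b hb => hl b (List.mem_cons_of_mem _ hb))
      rw [if_neg (by omega), gEl_single]
  have hx : (⟨x, x_mem⟩ : C0) ∈ S := hwit 6 (by omega) _ (by rw [if_pos rfl]; rfl)
  have htop : ∀ g : C0, g ∈ S := by
    intro g
    obtain ⟨i, p, hg⟩ := exists_coords g
    rw [show g = rep i * (gEl (elL (qf p.1)) * ⟨x, x_mem⟩ ^ p.2.val) from Subtype.ext hg]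
    exact S.mul_mem (hgen _ (path_lt i)) (S.mul_mem (hgen _ (qf_spec p.1).2.1) (S.pow_mem hx _))
  -- the quotient is cyclic, so the commutator lies in the subgroup
  have hq : ∀ g h : C0, g * h * g⁻¹ * h⁻¹ ∈ M := by
    have hrep : ∀ g : C0, ∃ k : ℤ, ((g : C0) : C0 ⧸ M) = (v : C0 ⧸ M) ^ k := by
      intro g
      obtain ⟨a, ha, b, ⟨k, rfl⟩, rfl⟩ := Subgroup.mem_sup_of_normal_left.1 (htop g)
      exact ⟨k, by rw [QuotientGroup.mk_mul, (QuotientGroup.eq_one_iff a).2 ha, one_mul, QuotientGroup.mk_zpow]⟩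
    intro g h
    obtain ⟨k, hk⟩ := hrep g
    obtain ⟨l, hl⟩ := hrep h
    rw [← QuotientGroup.eq_one_iff, QuotientGroup.mk_mul, QuotientGroup.mk_mul, QuotientGroup.mk_mul,
      QuotientGroup.mk_inv, QuotientGroup.mk_inv, hk, hl, ← zpow_add, ← zpow_neg, ← zpow_neg, ← zpow_add, ← zpow_add]
    simp
  have hvM : v ∈ M := by
    have h1 : gEl [1] * v * (gEl [1])⁻¹ = v ^ 3 := by
      rw [mul_inv_eq_iff_eq_mul, ← gEl_replicate]
      apply Subtype.ext
      have h := sameWord_sound nrm_table.2.2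
      rw [evW_append, evW_append] at h
      show (gEl [1] : H5) * (gEl [3] : H5) = evW ev (gW gens [3, 3, 3]) * (gEl [1] : H5)
      rw [gEl_single, gEl_single]
      exact h
    have h2 : v ^ 2 ∈ M := by
      have := hq (gEl [1]) v
      rwa [h1, pow_succ, mul_inv_cancel_right] at this
    have h5 : v ^ 5 = 1 := by
      rw [← gEl_replicate]
      exact Subtype.ext (sameWord_sound nrm_table.2.1)
    have h6 : v = (v ^ 2) ^ 3 := by rw [← pow_mul, show 2 * 3 = 5 + 1 from rfl, pow_succ, h5, one_mul]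
    rw [h6]
    exact M.pow_mem h2 3
  refine Or.inr (eq_top_iff.2 fun g _ => ?_)
  have hle : S ≤ M := sup_le le_rfl (Subgroup.zpowers_le.2 hvM)
  exact hle (htop g)

end CfsgLib.Presented.Ly.ThreeCent
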