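import Cfsg.Agent.Lib.Presented.Ly.ThreeCent.Suborbits
import Cfsg.Agent.Lib.Presented.Ly.ThreeCent.Simple
import Cfsg.Agent.Lib.Presented.Ly.ThreeCent.Regular
import Mathlib.GroupTheory.QuotientGroup.Basic

/-!
The centraliser of an element of order 3 in the presented Lyons group, from the exact index: transitive on the 7128
fixed cosets, centre of order 3, simple quotient of order 898128000.
-/
set_option autoImplicit false
set_option maxRecDepth 100000

namespace CfsgLib.Presented.Ly.ThreeCent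

open Dce (P0 P1 P2 P3 P4)
open ThreeCentData (kx X h2 h3 h4)

/-- the element of order 3 of the Lyons group -/
noncomputable def xL : Cfsg.Spor.Ly := toLy x

/-- its centraliser -/
noncomputable def CL : Subgroup Cfsg.Spor.Ly := Subgroup.centralizer ({xL} : Set Cfsg.Spor.Ly)

theorem mem_CL {g : Cfsg.Spor.Ly} : g ∈ CL ↔ g * xL = xL * g := by
  rw [CL, Subgroup.mem_centralizer_singleton_iff]

/-- the element of order 3 inside its centraliser -/
noncomputable def xc : CL := ⟨xL, mem_CL.2 rfl⟩

/-- the subgroup it generates -/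
noncomputable def Zc : Subgroup CL := Subgroup.zpowers xc

theorem xc_comm (g : CL) : g * xc = xc * g := Subtype.ext (mem_CL.1 g.2)

theorem Zc_le_center : Zc ≤ Subgroup.center CL := by
  rw [Zc, Subgroup.zpowers_le, Subgroup.mem_center_iff]
  exact xc_comm

instance Zc_normal : Zc.Normal :=
  ⟨fun n hn g => by
    rw [Subgroup.mem_center_iff.1 (Zc_le_center hn) g, mul_inv_cancel_right]
    exact hn⟩

/-- the map from the centraliser in G₂(5) -/
noncomputable def cHom : C0 →* CL :=
  (toLy.comp C0.subtype).codRestrict CL fun c => mem_CL.2 (by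
    show toLy (c : H5) * toLy x = toLy x * toLy (c : H5)
    rw [← map_mul, (mem_C0.1 c.2).eq, map_mul])

theorem gz_mem : gz ∈ CL := by
  rw [mem_CL]
  have e : evW ev (thWord kx) = x :=
    (sameWord_sound (show sameWord (thWord kx) X = true by decide +kernel)).trans rfl
  have h := z_conj_word (w := kx) (by decide +kernel)
  rw [e, ← X_eq.1] at h
  exact h

/-- the stabiliser of the base coset -/
noncomputable def Cs : Subgroup CL := MulAction.stabilizer CL (P0 : XLy)

theorem mem_Cs {g : CL} : g ∈ Cs ↔ (g : Cfsg.Spor.Ly) • P0 = P0 := Iff.rfl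

theorem base_fix (g : H5) : toLy g • P0 = P0 := by
  rw [P0, pBase, MulAction.Quotient.smul_coe, smul_eq_mul, mul_one]
  exact QuotientGroup.eq.2 (by rw [mul_one]; exact toLy.range.inv_mem ⟨_, rfl⟩)

theorem cHom_mem (c : C0) : cHom c ∈ Cs := base_fix _

variable (hidx : toLy.range.index = 8835156)

include hidx in
theorem xL_order : orderOf xL = 3 := by rw [xL, orderOf_injective toLy (toLy_injective hidx), x_order]

include hidx in
theorem cHom_injective : Function.Injective cHom := fun a b h =>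
  Subtype.ext (toLy_injective hidx (congrArg Subtype.val h))

include hidx in
theorem Cs_eq : cHom.range = Cs := by
  refine le_antisymm (by rintro _ ⟨c, rfl⟩; exact cHom_mem c) fun g hg => ?_
  have h := mem_Cs.1 hg
  rw [P0, pBase, MulAction.Quotient.smul_coe, smul_eq_mul, mul_one] at h
  have h' := QuotientGroup.eq.1 h
  rw [mul_one] at h'
  obtain ⟨c, hc⟩ := toLy.range.inv_mem_iff.1 h'
  have hcx : c ∈ C0 := mem_C0.2 (toLy_injective hidx (by rw [map_mul, map_mul, hc]; exact mem_CL.1 g.2))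
  exact ⟨⟨c, hcx⟩, Subtype.ext hc⟩

include hidx in
theorem card_Cs : Nat.card Cs = 378000 := by
  rw [← Cs_eq hidx, ← Nat.card_congr (MonoidHom.ofInjective (cHom_injective hidx)).toEquiv, card_C0]

include hidx in
theorem Zc_card : Nat.card Zc = 3 := by
  rw [Zc, Nat.card_zpowers, ← orderOf_injective CL.subtype CL.subtype_injective]
  exact xL_order hidx

theorem Zc_le_Cs : Zc ≤ Cs := by
  rw [Zc, Subgroup.zpowers_le]
  exact base_fix x

/-! ### The orbit of the base coset -/

/-- the four representatives -/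
noncomputable def rep2 : XLy := toLy (evW ev h2)⁻¹ • P2
/-- the third representative -/
noncomputable def rep3 : XLy := toLy (evW ev h3)⁻¹ • P3
/-- the fourth representative -/
noncomputable def rep4 : XLy := toLy (evW ev h4)⁻¹ • P4

theorem cOrb_sub (g : H5) (P : XLy) : cOrb (toLy g • P) ⊆ orb P := by
  rintro _ ⟨c, rfl⟩
  exact ⟨(c : H5) * g, by show toLy ((c : H5) * g) • P = toLy (c : H5) • toLy g • P; rw [map_mul, mul_smul]⟩

include hidx in
theorem fixed_cases {p : XLy} (hp : xL • p = p) :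
    p = P0 ∨ p ∈ cOrb P1 ∨ p ∈ cOrb rep2 ∨ p ∈ cOrb rep3 ∨ p ∈ cOrb rep4 := by
  have h : p ∈ ({P0} : Set XLy) ∪ orb P1 ∪ orb P2 ∪ orb P3 ∪ orb P4 := univ_eq ▸ Set.mem_univ p
  simp only [Set.mem_union, Set.mem_singleton_iff] at h
  rcases h with (((h | h) | h) | h) | h
  · exact Or.inl h
  · refine Or.inr (Or.inl ?_)
    have := (sub1 hidx).fix_mem h hp
    rwa [inv_one, map_one, one_smul] at this
  · exact Or.inr (Or.inr (Or.inl ((sub2 hidx).fix_mem h hp)))
  · exact Or.inr (Or.inr (Or.inr (Or.inl ((sub3 hidx).fix_mem h hp))))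
  · exact Or.inr (Or.inr (Or.inr (Or.inr ((sub4 hidx).fix_mem h hp))))

include hidx in
theorem cOrb_sizes : (cOrb P1).ncard = 252 ∧ (cOrb rep2).ncard = 2625 ∧ (cOrb rep3).ncard = 750 ∧
    (cOrb rep4).ncard = 3500 ∧ (cOrb P1).Finite ∧ (cOrb rep2).Finite ∧ (cOrb rep3).Finite ∧ (cOrb rep4).Finite := by
  have e1 := (sub1 hidx).ncard
  rw [inv_one, map_one, one_smul] at e1
  have e2 : (cOrb rep2).ncard * 144 = 378000 := (sub2 hidx).ncard
  have e3 : (cOrb rep3).ncard * 504 = 378000 := (sub3 hidx).ncard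
  have e4 : (cOrb rep4).ncard * 108 = 378000 := (sub4 hidx).ncard
  exact ⟨by omega, by omega, by omega, by omega, Set.finite_range _, Set.finite_range _, Set.finite_range _,
    Set.finite_range _⟩

theorem cOrb_in {J : Subgroup CL} (hJ : Cs ≤ J) {q : XLy} (hq : q ∈ MulAction.orbit J (P0 : XLy)) :
    cOrb q ⊆ MulAction.orbit J (P0 : XLy) := by
  rintro _ ⟨c, rfl⟩
  obtain ⟨j, rfl⟩ := hq
  exact ⟨⟨cHom c, hJ (cHom_mem c)⟩ * j, mul_smul (⟨cHom c, hJ (cHom_mem c)⟩ : J) j P0⟩

theorem orb_back {P q : XLy} (h : q ∈ cOrb P) : P ∈ cOrb q := by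
  obtain ⟨c, rfl⟩ := h
  refine ⟨c⁻¹, ?_⟩
  show toLy ((c⁻¹ : C0) : H5) • toLy (c : H5) • P = P
  rw [← mul_smul, ← map_mul, Subgroup.coe_inv, inv_mul_cancel, map_one, one_smul]

theorem orbit_fixed {J : Subgroup CL} {p : XLy} (hp : p ∈ MulAction.orbit J (P0 : XLy)) : xL • p = p := by
  obtain ⟨j, rfl⟩ := hp
  show xL • ((j : CL) : Cfsg.Spor.Ly) • P0 = ((j : CL) : Cfsg.Spor.Ly) • P0
  rw [← mul_smul, ← mem_CL.1 (j : CL).2, mul_smul, show xL • P0 = P0 from base_fix x]

/-- the chosen suborbits -/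
noncomputable def sel (b : Bool) (s : Set XLy) : Set XLy := cond b s ∅

theorem mem_sel {b : Bool} {s : Set XLy} {p : XLy} : p ∈ sel b s ↔ b = true ∧ p ∈ s := by cases b <;> simp [sel]

theorem ncard_sel (b : Bool) (s : Set XLy) : (sel b s).ncard = cond b s.ncard 0 := by cases b <;> simp [sel]

include hidx in
theorem orbit_sizes {J : Subgroup CL} (hJ : Cs ≤ J) : ∃ b1 b2 b3 b4 : Bool,
    (MulAction.orbit J (P0 : XLy)).ncard = 1 + cond b1 252 0 + cond b2 2625 0 + cond b3 750 0 + cond b4 3500 0 ∧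
      (P1 ∈ MulAction.orbit J (P0 : XLy) → b1 = true) ∧
      (b1 = true ∧ b2 = true ∧ b3 = true ∧ b4 = true →
        ∀ p : XLy, xL • p = p → p ∈ MulAction.orbit J (P0 : XLy)) := by
  classical
  set O := MulAction.orbit J (P0 : XLy) with hO
  obtain ⟨e1, e2, e3, e4, f1, f2, f3, f4⟩ := cOrb_sizes hidx
  obtain ⟨-, d1, d2, d3, d4⟩ := orbit_facts hidx
  let b : XLy → Bool := fun q => decide (q ∈ O)
  have hsplit : O = {P0} ∪ sel (b P1) (cOrb P1) ∪ sel (b rep2) (cOrb rep2) ∪ sel (b rep3) (cOrb rep3) ∪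
      sel (b rep4) (cOrb rep4) := by
    ext p
    simp only [Set.mem_union, Set.mem_singleton_iff, mem_sel, b, decide_eq_true_eq]
    constructor
    · intro hp
      have back : ∀ {P : XLy}, p ∈ cOrb P → P ∈ O := fun hP => cOrb_in hJ hp (orb_back hP)
      rcases fixed_cases hidx (orbit_fixed hp) with h | h | h | h | h
      · exact Or.inl (Or.inl (Or.inl (Or.inl h)))
      · exact Or.inl (Or.inl (Or.inl (Or.inr ⟨back h, h⟩)))
      · exact Or.inl (Or.inl (Or.inr ⟨back h, h⟩))
      · exact Or.inl (Or.inr ⟨back h, h⟩)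
      · exact Or.inr ⟨back h, h⟩
    · rintro ((((rfl | ⟨h, h'⟩) | ⟨h, h'⟩) | ⟨h, h'⟩) | ⟨h, h'⟩)
      · exact MulAction.mem_orbit_self _
      all_goals exact cOrb_in hJ h h'
  have s1 : sel (b P1) (cOrb P1) ⊆ orb P1 := fun p hp => by
    have h := (mem_sel.1 hp).2
    rw [show P1 = toLy (1 : H5) • P1 by rw [map_one, one_smul]] at h
    exact cOrb_sub _ _ h
  have s2 : sel (b rep2) (cOrb rep2) ⊆ orb P2 := fun p hp => cOrb_sub _ _ (mem_sel.1 hp).2
  have s3 : sel (b rep3) (cOrb rep3) ⊆ orb P3 := fun p hp => cOrb_sub _ _ (mem_sel.1 hp).2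
  have s4 : sel (b rep4) (cOrb rep4) ⊆ orb P4 := fun p hp => cOrb_sub _ _ (mem_sel.1 hp).2
  have fs : ∀ (c : Bool) {s : Set XLy}, s.Finite → (sel c s).Finite := fun c s hs => by
    cases c
    · exact Set.finite_empty
    · exact hs
  have h0 : ({P0} : Set XLy).Finite := Set.finite_singleton _
  have g1 := h0.union (fs (b P1) f1)
  have g2 := g1.union (fs (b rep2) f2)
  have g3 := g2.union (fs (b rep3) f3)
  refine ⟨b P1, b rep2, b rep3, b rep4, ?_, fun h => decide_eq_true h, ?_⟩
  · rw [hsplit,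
      Set.ncard_union_eq (d4.mono (Set.union_subset_union (Set.union_subset_union
        (Set.union_subset_union (Set.Subset.refl _) s1) s2) s3) s4) g3 (fs _ f4),
      Set.ncard_union_eq (d3.mono (Set.union_subset_union (Set.union_subset_union (Set.Subset.refl _) s1) s2) s3)
        g2 (fs _ f3),
      Set.ncard_union_eq (d2.mono (Set.union_subset_union (Set.Subset.refl _) s1) s2) g1 (fs _ f2),
      Set.ncard_union_eq (d1.mono (Set.Subset.refl _) s1) h0 (fs _ f1),
      Set.ncard_singleton, ncard_sel, ncard_sel, ncard_sel, ncard_sel, e1, e2, e3, e4]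
  · rintro ⟨t1, t2, t3, t4⟩ p hp
    rcases fixed_cases hidx hp with h | h | h | h | h
    · rw [h]; exact MulAction.mem_orbit_self _
    exacts [cOrb_in hJ (of_decide_eq_true t1) h, cOrb_in hJ (of_decide_eq_true t2) h,
      cOrb_in hJ (of_decide_eq_true t3) h, cOrb_in hJ (of_decide_eq_true t4) h]

theorem orbit_relIndex (J : Subgroup CL) : (MulAction.orbit J (P0 : XLy)).ncard = Cs.relIndex J := by
  rw [← MulAction.index_stabilizer, Subgroup.relIndex]
  rfl

include hidx in
theorem finite_Ly : Finite Cfsg.Spor.Ly :=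
  Nat.finite_of_card_ne_zero (by rw [card_Ly hidx]; norm_num)

include hidx in
theorem Cs_index : Cs.index = 7128 ∧ ∀ p : XLy, xL • p = p → ∃ g : CL, (g : Cfsg.Spor.Ly) • P0 = p := by
  haveI := finite_Ly hidx
  obtain ⟨b1, b2, b3, b4, hn, hP1, hall⟩ := orbit_sizes hidx (le_top : Cs ≤ (⊤ : Subgroup CL))
  rw [orbit_relIndex, Subgroup.relIndex_top_right] at hn
  have hb1 : b1 = true := hP1 ⟨⟨⟨gz, gz_mem⟩, Subgroup.mem_top _⟩, rfl⟩
  have hdvd : Cs.index * 378000 ∣ 51765179004000000 := by
    rw [← card_Cs hidx, mul_comm, Subgroup.card_mul_index, ← card_Ly hidx]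
    exact Subgroup.card_subgroup_dvd_card CL
  subst hb1
  cases b2 <;> cases b3 <;> cases b4 <;> simp only [cond_true, cond_false] at hn <;> rw [hn] at hdvd <;>
    try (exfalso; revert hdvd; decide +kernel)
  refine ⟨by rw [hn], fun p hp => ?_⟩
  obtain ⟨j, hj⟩ := hall ⟨rfl, rfl, rfl, rfl⟩ p hp
  exact ⟨(j : CL), hj⟩

include hidx in
theorem card_CL : Nat.card CL = 2694384000 := by
  rw [← Subgroup.card_mul_index Cs, card_Cs hidx, (Cs_index hidx).1]

include hidx in
theorem above_Cs {J : Subgroup CL} (hJ : Cs ≤ J) : J = Cs ∨ J = ⊤ := by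
  haveI := finite_Ly hidx
  obtain ⟨b1, b2, b3, b4, hn, -, -⟩ := orbit_sizes hidx hJ
  rw [orbit_relIndex] at hn
  have hd : Cs.relIndex J ∣ 7128 := ⟨J.index, by rw [Subgroup.relIndex_mul_index hJ, (Cs_index hidx).1]⟩
  have hcases : Cs.relIndex J = 1 ∨ Cs.relIndex J = 7128 := by
    rw [hn] at hd ⊢
    cases b1 <;> cases b2 <;> cases b3 <;> cases b4 <;> simp only [cond_true, cond_false] at hd ⊢ <;>
      first | (exact Or.inl trivial) | (exact Or.inr trivial) | (exfalso; revert hd; decide +kernel)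
  rcases hcases with h | h
  · exact Or.inl (le_antisymm (Subgroup.relIndex_eq_one.1 h) hJ)
  · refine Or.inr (Subgroup.index_eq_one.1 ?_)
    have := Subgroup.relIndex_mul_index hJ
    rw [h, (Cs_index hidx).1] at this
    omega

/-! ### Normal subgroups -/

theorem Zx_map : Zx.map cHom = Zc := by
  rw [Zx, Zc, MonoidHom.map_zpowers]
  rfl

include hidx in
theorem normal_step {L : Subgroup CL} (hL : L.Normal) (hz : Zc ≤ L) :
    L = Zc ∨ L = ⊤ ∨ (L ⊓ Cs = Zc ∧ Nat.card L = 21384) := by
  haveI := finite_Ly hidx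
  haveI := hL
  have hinf : L ⊓ Cs = (L.comap cHom).map cHom := by rw [Subgroup.map_comap_eq, Cs_eq hidx, inf_comm]
  rcases normal_cases (hL.comap cHom) with hle | htop
  · have hmeet : L ⊓ Cs = Zc := by
      refine le_antisymm ?_ (le_inf hz Zc_le_Cs)
      rw [hinf, ← Zx_map]
      exact Subgroup.map_mono hle
    rcases above_Cs hidx (le_sup_right : Cs ≤ L ⊔ Cs) with hJ | hJ
    · left
      have hLC : L ≤ Cs := hJ ▸ le_sup_left
      rw [← hmeet, inf_eq_left.2 hLC]
    · right; right
      refine ⟨hmeet, ?_⟩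
      have h1 : L.relIndex Cs = L.index := by
        rw [← Subgroup.relIndex_sup_right, sup_comm, hJ, Subgroup.relIndex_top_right]
      have h2 := Subgroup.card_mul_index (L.subgroupOf Cs)
      rw [show (L.subgroupOf Cs).index = L.index from h1] at h2
      have h3 : Nat.card (L.subgroupOf Cs) = 3 := by
        rw [← Subgroup.inf_subgroupOf_right,
          Nat.card_congr (Subgroup.subgroupOfEquivOfLe (inf_le_right : L ⊓ Cs ≤ Cs)).toEquiv, hmeet, Zc_card hidx]
      rw [h3, card_Cs hidx] at h2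
      have h4 := Subgroup.card_mul_index L
      rw [card_CL hidx] at h4
      rw [show L.index = 126000 by omega] at h4
      omega
  · have hCL : Cs ≤ L := by
      rw [← Cs_eq hidx]
      rintro _ ⟨c, rfl⟩
      exact (show c ∈ L.comap cHom from htop ▸ Subgroup.mem_top c)
    rcases above_Cs hidx hCL with h | h
    · exfalso
      subst h
      have hfix : ∀ g : CL, (g : Cfsg.Spor.Ly) • P0 = P1 → ∀ c : C0, toLy (c : H5) • P1 = P1 := by
        intro g hg c
        have hc : g⁻¹ * cHom c * g⁻¹⁻¹ ∈ Cs := hL.conj_mem _ (cHom_mem c) g⁻¹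
        have hc' := mem_Cs.1 hc
        rw [inv_inv, Subgroup.coe_mul, Subgroup.coe_mul, mul_smul, mul_smul, hg, Subgroup.coe_inv,
          inv_smul_eq_iff, hg] at hc'
        exact hc'
      have hg : xL • P1 = P1 := orbit_fixed (J := ⊤) ⟨⟨⟨gz, gz_mem⟩, Subgroup.mem_top _⟩, rfl⟩
      obtain ⟨g, hg'⟩ := (Cs_index hidx).2 P1 hg
      have : cOrb P1 = {P1} := by
        ext p
        constructor
        · rintro ⟨c, rfl⟩
          exact hfix g hg' c
        · rintro rfl
          exact ⟨1, by simp⟩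
      have h252 := (cOrb_sizes hidx).1
      rw [this, Set.ncard_singleton] at h252
      omega
    · exact Or.inr (Or.inl h)

include hidx in
theorem normal_ge {L : Subgroup CL} (hL : L.Normal) (hz : Zc ≤ L) : L = Zc ∨ L = ⊤ := by
  haveI := finite_Ly hidx
  rcases normal_step hidx hL hz with h | h | ⟨hmeet, hcard⟩
  · exact Or.inl h
  · exact Or.inr h
  exfalso
  haveI := hL
  let q := QuotientGroup.mk' Zc
  let Nb : Subgroup (CL ⧸ Zc) := L.map q
  haveI hNn : Nb.Normal := hL.map q (QuotientGroup.mk'_surjective Zc)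
  have hcomap : Nb.comap q = L := by
    rw [Subgroup.comap_map_eq, QuotientGroup.ker_mk', sup_eq_left.2 hz]
  have hidx' : Nb.index = L.index := by
    rw [← hcomap, Subgroup.index_comap_of_surjective _ (QuotientGroup.mk'_surjective Zc)]
  have hQ : Nat.card (CL ⧸ Zc) * 3 = Nat.card CL := by
    rw [← Zc_card hidx]
    exact (Subgroup.card_eq_card_quotient_mul_card_subgroup Zc).symm
  have hN : Nat.card Nb = 7128 := by
    have h1 := Subgroup.card_mul_index Nb
    have h2 := Subgroup.card_mul_index L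
    rw [hcard, ← hidx', ← hQ, ← h1] at h2
    have hne : Nb.index ≠ 0 := Subgroup.index_ne_zero_of_finite
    have : 21384 = Nat.card Nb * 3 := Nat.eq_of_mul_eq_mul_right (Nat.pos_of_ne_zero hne) (by rw [h2]; ring)
    omega
  obtain ⟨M, hMb, hMt, hMc⟩ := exists_invariant hN
  let M' : Subgroup (CL ⧸ Zc) := M.map Nb.subtype
  have hM'n : M'.Normal := by
    refine ⟨fun m hm g => ?_⟩
    obtain ⟨m0, hm0, rfl⟩ := Subgroup.mem_map.1 hm
    have h : MulAut.conjNormal g m0 ∈ M := by
      rw [← hMc (MulAut.conjNormal g)]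
      exact ⟨m0, hm0, rfl⟩
    exact ⟨_, h, MulAut.conjNormal_apply g m0⟩
  have hzl : Zc ≤ M'.comap q := fun z hz' => by
    rw [Subgroup.mem_comap, show q z = 1 from (QuotientGroup.eq_one_iff z).2 hz']
    exact one_mem _
  have hle : M'.comap q ≤ L := hcomap ▸ Subgroup.comap_mono (Subgroup.map_subtype_le M)
  have hqc : q.range = ⊤ := MonoidHom.range_eq_top.2 (QuotientGroup.mk'_surjective Zc)
  have hM'eq : (M'.comap q).map q = M' := Subgroup.map_comap_eq_self (hqc ▸ le_top)
  rcases normal_step hidx (hM'n.comap q) hzl with h | h | ⟨-, hc⟩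
  · refine hMb ?_
    have : M' = ⊥ := by
      rw [← hM'eq, h, Subgroup.map_eq_bot_iff, QuotientGroup.ker_mk']
    exact Subgroup.map_injective Nb.subtype_injective (this.trans (Subgroup.map_bot _).symm)
  · have : L = ⊤ := top_unique (h ▸ hle)
    rw [this, Subgroup.card_top, card_CL hidx] at hcard
    omega
  · refine hMt ?_
    have e : M'.comap q = L := Subgroup.eq_of_le_of_card_ge hle (by rw [hc, hcard])
    have : M' = Nb := by rw [← hM'eq, e]
    refine Subgroup.map_injective Nb.subtype_injective (this.trans ?_)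
    rw [← MonoidHom.range_eq_map, Subgroup.range_subtype]

include hidx in
theorem center_eq : Subgroup.center CL = Zc := by
  refine (normal_ge hidx inferInstance Zc_le_center).resolve_right fun h => ?_
  have hab : ∀ a b : C0, a * b = b * a := fun a b => cHom_injective hidx (by
    rw [map_mul, map_mul]
    exact (Subgroup.mem_center_iff.1 (h ▸ Subgroup.mem_top (cHom b)) (cHom a)))
  have hfix : ∀ j : Fin 252, tbl [3] j = j := by
    intro j
    have h0 : tbl [3] (Fin.ofNat 252 0) = Fin.ofNat 252 0 := by decide +kernel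
    have hr : actFun (rep j) (Fin.ofNat 252 0) = j := fp_injective (by rw [actFun_spec, fp_zero, rep_spec])
    rw [← act_gEl (by decide), ← hr, ← actFun_mul, hab, actFun_mul, act_gEl (by decide), h0]
  have : ∃ j : Fin 252, tbl [3] j ≠ j := by decide +kernel
  obtain ⟨j, hj⟩ := this
  exact hj (hfix j)

include hidx in
/-- The centraliser: centre of order 3, simple quotient of order 898128000. -/
theorem main : orderOf xL = 3 ∧ Nat.card (Subgroup.center CL) = 3 ∧
    IsSimpleGroup (CL ⧸ Subgroup.center CL) ∧ Nat.card (CL ⧸ Subgroup.center CL) = 898128000 := by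
  haveI := finite_Ly hidx
  have hc := center_eq hidx
  have hQ : Nat.card (CL ⧸ Subgroup.center CL) = 898128000 := by
    have h := Subgroup.card_eq_card_quotient_mul_card_subgroup (Subgroup.center CL)
    rw [card_CL hidx, show Nat.card (Subgroup.center CL) = 3 by rw [hc, Zc_card hidx]] at h
    omega
  refine ⟨xL_order hidx, by rw [hc, Zc_card hidx], ?_, hQ⟩
  haveI : Nontrivial (CL ⧸ Subgroup.center CL) := by
    rw [← Finite.one_lt_card_iff_nontrivial, hQ]
    norm_num
  refine ⟨fun H hH => ?_⟩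
  let q := QuotientGroup.mk' (Subgroup.center CL)
  have hsurj : Function.Surjective q := QuotientGroup.mk'_surjective _
  have hz : Zc ≤ H.comap q := fun z hz => by
    rw [Subgroup.mem_comap, show q z = 1 from (QuotientGroup.eq_one_iff z).2 (Zc_le_center hz)]
    exact one_mem _
  rcases normal_ge hidx (hH.comap q) hz with h | h
  · left
    rw [← Subgroup.map_comap_eq_self_of_surjective hsurj H, h, ← hc, Subgroup.map_eq_bot_iff,
      QuotientGroup.ker_mk']
  · right
    rw [← Subgroup.map_comap_eq_self_of_surjective hsurj H, h, Subgroup.map_top_of_surjective q hsurj]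

end CfsgLib.Presented.Ly.ThreeCent
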