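import Mathlib.Data.Nat.Notation

/-! Generated data for the centralizer of an element of order 3 of the presented Lyons group. -/
set_option autoImplicit false
set_option maxRecDepth 100000

namespace CfsgLib.Presented.Ly.ThreeCentData

/-- the element of order 3, in the generators of the subgroup normalised by the fifth generator -/
def kx : List Nat := [5, 6, 5, 7]

/-- its word -/
def X : List Nat := [1, 1, 1, 2, 1, 3, 1, 1, 1, 1, 1, 0, 2, 2, 0, 3, 3, 1]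

/-- its fixed points -/
def fixPts : List Nat := [0, 3, 650, 762, 805, 954, 1036, 1102, 1245, 1349, 1467, 1545, 1687, 1998, 2047, 2098, 2363, 2429, 2486, 2792, 2994, 3011, 3555, 3581, 3616, 3692, 3977, 4085, 4132, 4159, 4218, 4269, 4309, 4325, 4390, 4573, 4670, 4819, 4836, 4968, 5171, 5257, 5307, 5614, 5647, 5744, 5761, 5854, 5961, 6153, 6267, 6662, 6746, 6771, 6822, 6844, 6888, 7017, 7083, 7102, 7110, 7242, 7254, 7451, 7472, 7499, 7541, 7859, 7890, 8010, 8182, 8293, 8359, 8511, 8637, 8786, 8906, 8932, 9337, 9408, 9438, 9544, 9755, 9758, 9912, 10079, 10114, 10151, 10160, 10171, 10321, 10348, 10418, 10442, 10515, 10525, 10595, 10661, 10750, 10765, 10845, 10949, 11226, 11270, 11291, 11371, 11377, 11626, 11689, 11947, 11991, 12060, 12088, 12192, 12194, 12445, 12577, 12627, 12632, 12738, 12771, 12804, 12825, 12901, 12936, 12947, 12974, 12987, 13013, 13055, 13348, 13392,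 13400, 13470, 13504, 13522, 13537, 13543, 13651, 13665, 13679, 13699, 13703, 13744, 13765, 13840, 13967, 13977, 13998, 14120, 14173, 14197, 14252, 14302, 14472, 14478, 14525, 14596, 14760, 14796, 14835, 14904, 14915, 15049, 15139, 15297, 15327, 15401, 15408, 15421, 15455, 15497, 15506, 15566, 15710, 15715, 15726, 15731, 15751, 15765, 15788, 15796, 15814, 15994, 16055, 16127, 16130, 16157, 16194, 16232, 16289, 16290, 16431, 16542, 16552, 16574, 16669, 16695, 16802, 16807, 16946, 16970, 16983, 17041, 17102, 17171, 17190, 17246, 17575, 17581, 17588, 17613, 17685, 17688, 17738, 18031, 18044, 18075, 18094, 18138, 18155, 18288, 18330, 18464, 18495, 18538, 18571, 18574, 18615, 18621, 18644, 18694, 18769, 18825, 18831, 18860, 18924, 18955, 19034, 19036, 19096, 19139, 19149, 19156, 19234, 19255, 19267, 19278, 19294, 19296, 19329, 19345]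

/-- six elements commuting with it -/
def gens : List (List Nat) := [[9, 1, 3, 1, 8, 0, 2, 8, 0], [3, 3, 0, 3], [0, 0], [5, 1, 5, 0, 4, 1, 4, 0], [1, 2, 4, 3, 4, 0], [3, 5, 2, 1, 4, 0, 5]]

/-- their action on the fixed points -/
def tab : List (List Nat) := [[19, 29, 228, 193, 172, 134, 174, 125, 151, 113, 173, 117, 244, 153, 240, 167, 25, 73, 202, 100, 110, 99, 49, 148, 158, 183, 82, 204, 157, 88, 63, 182, 180, 97, 206, 164, 109, 0, 203, 136, 2, 152, 106, 75, 207, 37, 41, 198, 39, 111, 22, 38, 36, 249, 137, 120, 81, 102, 87, 98, 192, 30, 147, 89, 233, 18, 10, 248, 61, 184, 1, 241, 8, 200, 196, 128, 47, 57, 179, 60, 40, 55, 108, 208, 135, 53, 31, 154, 20, 226, 84, 5, 85, 197, 62, 27, 48, 17, 194, 3, 32, 76, 234, 149, 35, 16, 166, 168, 211, 212, 159, 42, 225, 91, 163, 123, 44, 4, 145, 185, 90, 83, 176, 155, 181, 116, 143, 220, 221, 236, 214, 165, 232, 230, 6, 56,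 251, 95, 15, 52, 65, 210, 21, 77, 93, 71, 34, 222, 12, 142, 124, 216, 94, 104, 209, 132, 72, 105, 130, 70, 67, 80, 246, 54, 235, 238, 50, 146, 161, 219, 215, 150, 66, 11, 9, 171, 178, 188, 131, 156, 45, 64, 23, 190, 139, 112, 129, 68, 199, 74, 28, 245, 140, 103, 223, 13, 186, 43, 229, 92, 201, 213, 79, 59, 114, 58, 243, 14, 118, 237, 96, 224, 69, 33, 231, 115, 78, 189, 205, 160, 24, 144, 46, 51, 239, 250, 187, 126, 107, 191, 169, 127, 170, 175, 227, 195, 217, 218, 242, 247, 7, 121, 122, 138, 86, 101, 119, 26, 133, 177, 162, 141], [1, 0, 133, 205, 83, 118, 21, 72, 114, 64, 175, 33, 40, 59, 74, 164, 66, 199, 143, 55, 215, 13, 46, 123, 98, 49, 41, 219, 228, 192, 161, 79, 217, 22, 93, 88, 106, 70, 152, 218, 51, 19, 100, 110, 56, 216, 8, 188, 3, 4, 178, 134, 112, 97, 94, 15, 11, 222, 86, 2, 245, 209, 173, 91, 35, 101, 92, 137, 151, 126, 37, 181, 62, 247, 90, 203, 17,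 180, 212, 6, 224, 210, 159, 42, 197, 76, 63, 48, 75, 153, 96, 58, 116, 14, 78, 235, 5, 139, 29, 243, 57, 10, 239, 130, 158, 179, 47, 120, 132, 105, 138, 82, 207, 169, 44, 20, 16, 221, 34, 244, 53, 61, 150, 65, 149, 73, 23, 227, 127, 141, 186, 233, 60, 31, 85, 147, 148, 185, 165, 111, 154, 242, 28, 115, 18, 103, 136, 194, 211, 196, 121, 80, 187, 9, 99, 142, 231, 249, 45, 107, 166, 43, 71, 171, 39, 182, 184, 30, 146, 223, 174, 200, 54, 87, 234, 69, 163, 183, 125, 77, 52, 157, 167, 238, 67, 208, 81, 229, 24, 32, 251, 250, 36, 220, 190, 119, 213, 189, 240, 12, 108, 155, 38, 89, 160, 7, 27, 109, 204, 237, 246, 113, 198, 68, 172, 102, 140, 128, 26, 131, 236, 195, 25, 168, 124, 122, 225, 84, 156, 129, 145, 241, 191, 248, 50, 206, 117, 226, 162, 144, 214, 201, 202, 104, 193, 176, 230, 170, 95, 177, 135, 232], [0, 1, 31, 7, 42, 34, 13, 62, 44, 35, 69, 22, 51, 2, 90, 39, 92,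 12, 115, 15, 102, 59, 8, 65, 29, 4, 19, 131, 156, 36, 43, 6, 128, 46, 14, 75, 47, 37, 187, 26, 134, 55, 57, 138, 11, 140, 114, 24, 205, 83, 125, 85, 207, 139, 78, 164, 33, 25, 63, 133, 176, 237, 87, 58, 88, 10, 116, 185, 80, 23, 70, 157, 173, 170, 96, 89, 199, 52, 198, 21, 124, 246, 107, 100, 189, 17, 91, 3, 203, 9, 5, 86, 16, 74, 212, 206, 118, 111, 192, 104, 222, 175, 144, 186, 45, 77, 188, 53, 60, 179, 165, 159, 109, 223, 56, 215, 66, 195, 93, 193, 97, 209, 121, 101, 196, 247, 123, 84, 227, 242, 81, 248, 245, 79, 76, 194, 211, 208, 182, 82, 99, 202, 228, 20, 143, 130, 148, 190, 113, 213, 61, 224, 229, 64, 243, 28, 241, 177, 216, 120, 184, 110, 181, 200, 218, 167, 67, 161, 136, 168, 234, 108, 94, 48, 50, 126, 171, 238, 73, 180, 112, 249, 30, 162, 137, 204, 210, 129, 98, 217, 232, 135, 106, 236, 251, 244, 68, 32, 214, 40, 132, 142, 152, 153, 166, 72, 219, 105, 160,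 226, 230, 169, 240, 151, 54, 239, 154, 127, 41, 233, 117, 119, 49, 146, 149, 150, 122, 197, 231, 141, 103, 201, 250, 95, 178, 27, 221, 225, 71, 18, 172, 155, 38, 158, 220, 163, 145, 174, 235, 183, 147, 191], [0, 1, 51, 15, 34, 25, 17, 22, 62, 69, 89, 3, 13, 14, 42, 9, 86, 36, 232, 87, 105, 106, 23, 35, 57, 29, 75, 145, 206, 85, 202, 5, 30, 164, 6, 39, 4, 63, 45, 7, 74, 101, 47, 128, 10, 161, 88, 12, 175, 76, 68, 24, 251, 144, 163, 56, 153, 90, 37, 100, 149, 82, 26, 116, 33, 8, 58, 171, 184, 11, 16, 141, 123, 212, 188, 65, 118, 102, 137, 49, 125, 201, 20, 21, 129, 31, 91, 44, 72, 19, 2, 92, 70, 199, 178, 155, 134, 112, 96, 165, 40, 173, 107, 168, 242, 135, 93, 237, 185, 111, 140, 250, 122, 142, 41, 121, 66, 210, 192, 27, 190, 109, 18, 218, 208, 200, 205, 183, 216, 99, 131, 193, 247, 98, 222, 61, 186, 80, 229, 150, 187, 182, 246, 139, 52, 228, 231, 159, 236, 240, 191,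 94, 43, 48, 227, 117, 244, 158, 32, 179, 196, 249, 84, 50, 126, 162, 234, 104, 219, 230, 204, 151, 213, 203, 245, 55, 166, 152, 67, 209, 120, 167, 197, 110, 54, 73, 220, 127, 59, 181, 239, 207, 79, 146, 77, 28, 174, 243, 132, 83, 78, 148, 157, 114, 60, 64, 169, 143, 198, 215, 211, 95, 224, 176, 160, 147, 177, 38, 46, 156, 241, 113, 133, 119, 108, 53, 180, 138, 223, 238, 195, 130, 97, 136, 172, 221, 248, 194, 154, 226, 170, 233, 189, 71, 103, 214, 235, 124, 81, 217, 115, 225], [0, 1, 4, 89, 85, 70, 5, 65, 9, 87, 37, 10, 90, 2, 51, 19, 47, 25, 216, 116, 171, 210, 8, 62, 6, 16, 11, 120, 143, 86, 228, 92, 145, 245, 31, 26, 29, 35, 188, 75, 166, 30, 24, 124, 58, 59, 142, 57, 18, 162, 182, 34, 93, 21, 71, 97, 112, 17, 23, 213, 52, 178, 69, 39, 174, 15, 22, 140, 197, 44, 42, 159, 235, 192, 234, 3, 84, 241, 101, 165, 203, 138, 67, 117, 107, 91, 12, 66, 246, 63, 36, 13, 14,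 95, 183, 104, 135, 152, 105, 194, 176, 202, 233, 98, 60, 151, 211, 136, 76, 248, 219, 81, 43, 184, 32, 148, 7, 189, 129, 180, 80, 236, 128, 221, 146, 114, 160, 103, 208, 237, 48, 175, 131, 20, 61, 94, 108, 173, 126, 38, 156, 179, 54, 217, 106, 190, 56, 218, 238, 251, 45, 127, 247, 122, 33, 242, 222, 119, 27, 46, 111, 100, 102, 141, 214, 77, 195, 204, 96, 150, 53, 187, 206, 157, 115, 232, 230, 132, 110, 88, 137, 170, 209, 168, 243, 118, 185, 244, 172, 240, 125, 161, 99, 55, 220, 207, 250, 215, 130, 155, 41, 229, 223, 158, 144, 196, 139, 249, 231, 72, 181, 167, 79, 169, 109, 123, 198, 74, 113, 134, 73, 68, 82, 226, 49, 83, 78, 164, 239, 205, 191, 153, 177, 224, 28, 50, 154, 186, 64, 200, 225, 212, 149, 147, 133, 121, 163, 193, 227, 40, 201, 199], [0, 1, 115, 149, 236, 229, 81, 95, 189, 170, 251, 60, 160, 196, 174, 240, 33, 201, 32, 53, 23, 59, 155, 117, 109, 238, 167,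 51, 102, 154, 42, 138, 14, 46, 248, 210, 148, 83, 73, 211, 118, 92, 245, 27, 52, 212, 153, 214, 203, 134, 43, 121, 161, 38, 177, 41, 101, 111, 199, 49, 150, 7, 181, 21, 218, 242, 93, 62, 128, 204, 64, 247, 175, 244, 192, 104, 222, 67, 31, 96, 25, 71, 22, 188, 20, 227, 164, 144, 48, 225, 250, 126, 205, 40, 65, 234, 37, 202, 58, 135, 76, 70, 171, 87, 206, 35, 100, 151, 219, 68, 69, 184, 157, 122, 91, 163, 106, 213, 133, 2, 6, 50, 158, 55, 190, 29, 72, 15, 145, 105, 137, 80, 180, 66, 63, 39, 183, 5, 179, 186, 11, 124, 18, 136, 45, 24, 200, 193, 182, 191, 220, 75, 119, 173, 147, 172, 89, 12, 13, 146, 221, 224, 82, 152, 88, 61, 99, 28, 44, 237, 143, 26, 162, 16, 142, 114, 129, 223, 8, 231, 34, 195, 208, 9, 216, 156, 110, 3, 79, 230, 17, 241, 98, 125, 178, 77, 113, 198, 226, 74, 85, 141, 47, 86, 139, 123, 107, 233, 239, 130, 176, 166, 103, 84, 235, 131, 228, 185, 56, 10,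 140, 112, 116, 90, 168, 217, 4, 159, 57, 209, 194, 78, 30, 127, 165, 97, 197, 94, 215, 36, 207, 187, 169, 132, 19, 246, 232, 120, 243, 108, 54, 249]]

/-- paths from the first fixed point -/
def path : List (List Nat) := [[], [1], [0, 3, 0, 0], [2, 3, 0], [3, 2, 0, 1], [2, 3, 1, 0, 0], [5, 0, 1, 0], [4, 4, 0], [1, 0, 2, 0, 0], [3, 2, 0], [3, 3, 3, 0], [1, 3, 1, 0], [4, 4, 0, 1], [1, 4, 5, 0], [5, 0, 0, 0], [2, 0], [1, 4, 0], [4, 1, 0, 0], [4, 1, 3, 0], [0], [0, 0, 0, 1], [4, 5, 0], [4, 4, 3, 0], [1, 3, 2, 1, 0], [5, 4, 0, 0, 0], [2, 1, 0, 0], [2, 2, 2, 0], [2, 0, 2, 1, 0], [5, 0, 2, 0], [0, 1], [3, 0, 0, 0], [3, 3, 0, 1], [0, 0, 0], [2, 3, 1, 0], [5, 0, 0, 0, 0], [2, 3, 2, 0], [2, 0, 1], [4, 3, 3, 3, 0], [5, 5, 0], [2, 2, 0], [3, 0, 0], [5, 1, 0], [5, 3, 0, 0, 0], [2, 3, 0, 0, 0], [3, 3, 0], [5, 5, 3, 0], [0, 2, 0, 0], [0, 5, 0, 0], [1, 3, 0], [2, 2, 0, 0], [0, 4,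 3, 0, 0], [1, 3, 0, 0], [5, 3, 3, 0], [5, 0], [0, 1, 4, 0, 0], [1, 0], [3, 1, 0], [1, 0, 0], [4, 3, 3, 0], [2, 4, 5, 0], [5, 1, 3, 1, 0], [4, 2, 3, 0, 0], [2, 4, 4, 0], [1, 4, 0, 1], [1, 3, 2, 0], [4, 4, 4, 0], [4, 3, 0], [4, 4, 2, 0, 0], [0, 2, 5, 5, 0], [3, 3, 2, 0], [5, 5, 3, 1, 0], [0, 4, 0, 0, 0], [1, 4, 4, 0], [5, 5, 5, 0], [3, 3, 0, 0], [4, 2, 2, 0], [5, 0, 0], [0, 2, 5, 3, 0], [0, 3, 2, 0, 0, 0], [3, 1, 0, 1], [4, 0, 1, 0], [0, 3, 1, 0], [4, 2, 0, 0], [2, 2, 2, 0, 0], [4, 5, 0, 0], [3, 0, 1], [4, 0, 1], [3, 0], [0, 0, 1], [4, 2, 3, 0], [3, 1, 0, 0], [4, 3, 0, 1], [5, 5, 1, 0], [5, 4, 3, 0], [0, 4, 4, 1, 0], [5, 4, 4, 0], [1, 3, 1, 0, 0], [4, 1, 0], [5, 1, 0, 1], [1, 0, 3, 0], [0, 0], [5, 3, 1, 0], [0, 1, 0, 0], [1, 4, 0, 0, 0], [3, 0, 2, 0], [5, 5, 4, 0, 0], [5, 4, 0], [3, 0, 1, 0, 0], [5, 0, 5, 0], [0, 2, 0, 1], [4, 0, 4, 0, 0], [5, 1, 0, 0], [4, 3, 1, 0],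 [0, 3, 2, 0], [2, 0, 2, 0, 0], [5, 0, 3, 0, 0], [4, 0], [0, 1, 3, 1, 0], [5, 3, 0, 0], [5, 4, 4, 1, 0], [0, 1, 0], [5, 1, 3, 0, 0], [4, 3, 3, 1, 0], [2, 3, 2, 1, 0], [2, 4, 0, 1, 0], [0, 4, 4, 0], [3, 2, 1, 0], [2, 1, 0, 0, 0], [2, 0, 0, 0], [5, 4, 0, 0], [2, 4, 0, 0, 0], [0, 0, 4, 0, 0], [5, 2, 0, 3, 0], [3, 2, 0, 0], [2, 3, 0, 0], [0, 4, 5, 0, 0], [0, 2, 2, 0], [4, 0, 0, 0, 0], [4, 0, 3, 1, 0], [2, 5, 0], [0, 1, 0, 1], [4, 1, 4, 0, 0], [4, 0, 2, 0, 0], [2, 5, 3, 0], [5, 3, 0], [4, 0, 0, 0], [0, 0, 2, 0], [5, 0, 3, 0], [5, 2, 0, 1], [5, 2, 3, 0], [3, 2, 5, 0], [3, 2, 4, 0, 0], [4, 4, 1, 0], [3, 3, 1, 0], [0, 3, 0], [4, 2, 5, 0, 0], [2, 5, 0, 2, 0], [5, 4, 3, 1, 0], [1, 3, 0, 2, 0], [2, 5, 1, 0, 0], [4, 3, 2, 1, 0], [2, 0, 2, 0], [4, 2, 2, 0, 0], [1, 4, 0, 0], [2, 1, 0], [3, 1, 0, 3, 0], [4, 3, 0, 0], [0, 2, 0], [4, 2, 0, 5, 0], [0, 4, 4, 0, 0], [5, 3, 2, 0], [2,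 4, 0, 0], [2, 5, 2, 0], [5, 3, 3, 1, 0], [5, 5, 0, 0, 0], [3, 1, 3, 0], [4, 0, 0], [0, 0, 5, 0], [0, 4, 0, 0], [2, 0, 2, 0, 1], [0, 0, 0, 0], [5, 2, 4, 4, 0], [5, 5, 2, 0, 1], [2, 0, 5, 0], [5, 5, 1, 0, 0], [5, 1, 0, 0, 0], [5, 2, 5, 0], [2, 5, 5, 0], [2, 5, 4, 0], [0, 1, 0, 0, 0], [3, 0, 1, 0], [4, 4, 4, 0, 0], [1, 0, 1], [0, 2, 3, 0], [5, 4, 4, 0, 0], [4, 4, 3, 0, 0], [0, 3, 3, 0, 0], [1, 4, 5, 0, 0], [0, 0, 5, 0, 0], [2, 5, 0, 0], [2, 1, 4, 0, 0], [5, 4, 1, 0, 0], [5, 4, 1, 0], [5, 1, 3, 0], [4, 0, 2, 0], [2, 1, 3, 0], [1, 0, 2, 1, 0], [5, 5, 2, 0], [4, 2, 0, 0, 0], [0, 0, 3, 0], [4, 4, 5, 0], [5, 2, 2, 0], [5, 5, 5, 3, 0], [3, 2, 5, 2, 0], [4, 2, 1, 0], [0, 5, 3, 2, 0], [3, 2, 0, 0, 0], [1, 0, 0, 0], [2, 2, 1, 0], [5, 5, 0, 5, 0], [1, 0, 2, 3, 0], [0, 2, 0, 0, 0], [2, 0, 0], [4, 5, 4, 1, 0], [1, 4, 0, 1, 0], [4, 5, 2, 0], [2, 0, 0, 3, 0], [3, 0, 3, 0], [4, 3,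 0, 0, 0], [2, 4, 4, 1, 0], [4, 4, 0, 0], [0, 4, 2, 1, 0], [2, 3, 0, 1, 0], [4, 0, 1, 0, 0], [0, 0, 1, 0, 0], [0, 2, 1, 0], [0, 5, 4, 0, 0], [4, 5, 4, 0, 0], [5, 2, 1, 0, 0], [1, 0, 1, 0, 0], [5, 2, 0], [0, 0, 4, 0, 0, 0], [2, 5, 4, 0, 0], [2, 0, 3, 0], [4, 2, 5, 5, 0], [4, 2, 3, 1, 0], [4, 0, 0, 1], [4, 4, 4, 1, 0], [4, 0, 2, 0, 1], [0, 5, 0], [5, 3, 1, 0, 0], [1, 3, 0, 1, 0]]

/-- the block of a fixed point -/
def blk : List Nat := [0, 0, 1, 2, 3, 4, 5, 6, 1, 3, 4, 5, 6, 7, 8, 9, 10, 2, 11, 12, 13, 14, 7, 8, 15, 16, 15, 17, 18, 12, 19, 20, 13, 14, 21, 22, 9, 23, 24, 25, 26, 27, 22, 28, 20, 29, 30, 25, 31, 32, 33, 34, 35, 36, 37, 38, 39, 40, 41, 30, 42, 43, 34, 10, 44, 45, 46, 17, 18, 21, 23, 47, 26, 48, 49, 40, 31, 28, 50, 39, 51, 42, 52, 44, 11, 53, 54, 53, 55, 16, 45, 46, 41, 56, 57, 58, 59, 60, 27, 60, 55, 59, 61, 62, 63, 19, 64, 65, 66, 67, 68, 63, 69, 70, 71,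 72, 54, 73, 74, 75, 76, 77, 78, 49, 79, 80, 56, 81, 61, 82, 66, 83, 84, 71, 85, 86, 87, 88, 35, 89, 76, 90, 91, 92, 93, 94, 95, 24, 96, 97, 47, 98, 99, 32, 36, 100, 51, 43, 52, 29, 58, 101, 78, 102, 64, 69, 103, 67, 50, 37, 104, 94, 70, 85, 73, 74, 105, 106, 75, 101, 68, 77, 107, 108, 109, 83, 84, 110, 111, 72, 110, 90, 38, 48, 99, 33, 100, 92, 87, 112, 62, 97, 86, 113, 114, 112, 109, 107, 115, 116, 117, 118, 95, 91, 118, 119, 65, 119, 111, 88, 120, 121, 113, 57, 122, 123, 108, 93, 98, 124, 102, 122, 82, 115, 121, 103, 104, 106, 123, 81, 96, 79, 125, 89, 80, 117, 105, 120, 114, 116, 125, 124]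

/-- a point of each block -/
def blkRep : List Nat := [0, 2, 3, 4, 5, 6, 7, 13, 14, 15, 16, 18, 19, 20, 21, 24, 25, 27, 28, 30, 31, 34, 35, 37, 38, 39, 40, 41, 43, 45, 46, 48, 49, 50, 51, 52, 53, 54, 55, 56, 57, 58, 60, 61, 64, 65, 66, 71, 73, 74, 78, 80, 82, 85, 86, 88, 93, 94, 95, 96, 97, 102, 103, 104, 106, 107, 108, 109, 110, 112, 113, 114, 115, 117, 118, 119, 120, 121, 122, 124, 125, 127, 129, 131, 132, 134, 135, 136, 137, 139, 141, 142, 143, 144, 145, 146, 148, 149, 151, 152, 155, 161, 163, 166, 170, 176, 177, 182, 183, 184, 187, 188, 199, 203, 204, 208, 209, 210, 211, 215, 220, 221, 224, 225, 229, 242]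

/-- exponents on the normal cyclic subgroup -/
def nrm : List Nat := [0, 3, 4, 1, 1, 1]

/-- the elements as products of conjugates of the fourth -/
def wit : List (List (List Nat × Bool)) := [[([9, 2, 2, 1, 8, 3, 1, 4, 8, 0], false), ([5, 3, 9, 1, 4, 9, 0, 8, 4, 0, 8, 4], true), ([3, 3, 0, 3], false)], [([3, 9, 0, 2, 4, 9, 1, 2, 5, 8, 1, 8], true), ([9, 1, 5, 1, 5, 8, 0, 8, 1, 8], false), ([1, 9, 4, 0, 9, 5, 2, 0, 8, 5], true)], [([1, 9, 3, 5, 0, 8, 5, 0, 2, 8, 2], false), ([1, 4, 9, 1, 2, 4, 1, 8, 0, 4, 8, 2], false), ([1, 9, 3, 5, 0, 8, 5, 0, 2, 8, 2], false)], [([], true)], [([3, 9, 4, 0, 9, 2, 1, 8, 0, 8, 5], true), ([9, 0, 5, 9, 1, 2, 8, 5, 1, 8, 4], true), ([9, 1, 3, 1, 8, 0, 2, 8, 0], true), ([3, 9, 1, 4, 3, 8, 1, 8, 0, 8], false)], [([9, 2, 1, 9, 4, 1, 1, 4, 1, 8], true), ([3, 9, 1, 4, 3, 0, 8, 1, 8, 5, 1, 8], false), ([9, 1, 3, 1, 8, 0, 2, 8, 0], true),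 ([1, 9, 3, 1, 8, 0, 2, 0, 8], true)], [([2, 9, 0, 9, 5, 0, 4, 8, 3, 1, 8, 4], true), ([4, 9, 1, 9, 0, 3, 8, 1, 5, 8, 2], false), ([], true), ([9, 1, 4, 2, 9, 1, 8, 1, 5, 8], true)]]

/-- two hundred conjugators in the subgroup K -/
def cls : List (List Nat) := [[5, 7, 1], [6, 5], [1, 6, 5], [7, 5, 1], [7, 1, 5], [6, 5, 3, 0], [5, 7, 2], [2, 6, 5], [5, 0, 7, 0], [7, 5, 0], [6, 5, 0, 0], [5, 3], [5], [6, 5, 3], [0, 6, 5], [5, 7, 3], [1, 5, 7, 1], [1, 5, 2], [3, 1, 5], [7, 5, 3], [5, 7, 0], [5, 1, 7, 1], [3, 7, 5, 1], [1, 5, 0], [5, 1, 1], [5, 2, 2], [3, 1, 5, 0], [6, 5, 0], [5, 0], [3, 7, 5, 0], [1, 5, 7, 0], [2, 6, 5, 0], [3, 3, 5], [5, 1, 0], [5, 3, 0], [6, 1, 5], [7, 5, 0, 0], [5, 2, 1], [3, 5, 3, 0], [5, 2], [3, 5, 0], [5, 3, 0, 0], [3, 5, 3], [3, 5], [5, 0, 0], [5, 1], [1, 5, 1], [1, 5], [1, 5, 3], [3, 5, 0, 0], [2, 7, 0, 6], [7, 6], [7, 3, 6, 1], [7, 6, 0, 0],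 [6], [3, 7, 6, 0], [0, 6, 0, 0], [7, 6, 2], [3, 7, 6], [6, 1, 1], [6, 3, 2], [7, 6, 1, 0], [7, 6, 0], [3, 6, 1, 0], [1, 6], [2, 7, 6, 0], [0, 6, 0], [3, 0, 6], [7, 6, 2, 2], [6, 1, 0], [2, 7, 6], [7, 6, 1, 1], [7, 6, 2, 1], [0, 7, 6], [7, 6, 1], [6, 2, 1], [3, 6, 0], [6, 3], [7, 6, 3], [6, 1], [3, 6, 1], [6, 3, 0], [0, 6], [6, 3, 3], [7, 6, 3, 0], [1, 6, 3], [6, 0, 0], [0, 7, 6, 0], [1, 6, 0], [7, 0, 6], [7, 1, 6], [6, 3, 3, 0], [7, 3, 6], [7, 1, 6, 0], [6, 0], [6, 2, 2], [3, 6], [7, 6, 3, 2], [7, 3, 6, 0], [6, 2], [3, 3, 1], [1, 0], [0, 0], [], [3, 1], [3, 3, 3, 0], [3, 0], [1, 1, 1], [3, 0, 0], [1, 1, 0], [2, 1], [1], [3, 3], [2, 1, 1], [3, 3, 0], [3, 3, 3], [0], [2, 2], [3, 2, 2], [7, 6, 2, 7], [5, 7, 0, 6], [7, 5, 6], [7, 5, 0, 6], [3, 2], [1, 1], [3, 1, 0], [2], [6, 7, 3, 6], [0, 0, 0], [3], [7, 5, 3, 6], [5, 7, 6, 2], [7, 5, 6, 0, 0], [6, 7, 0, 6], [7, 5, 6,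 3, 0], [7, 5, 6, 3], [7, 6, 3, 7, 0], [1, 7, 5, 6], [7, 5, 6, 0], [6, 7, 6, 3], [5, 7, 6, 0], [7, 6, 3, 7], [5, 7, 6, 0, 0], [6, 7, 6, 0], [5, 7, 6, 3, 0], [5, 2, 7, 6], [5, 7, 6, 3], [6, 7, 6, 1], [7, 1, 5, 6], [5, 7, 6, 1], [6, 2, 7, 0], [6, 7, 3], [5, 6], [5, 0, 6, 0], [6, 1, 7], [1, 5, 6, 0], [5, 3, 6, 1], [5, 6, 3, 0], [6, 0, 7], [7], [7, 3, 1], [6, 0, 7, 1], [7, 2], [7, 3, 0], [5, 3, 6], [5, 6, 0], [6, 3, 7, 0], [6, 7, 1], [5, 0, 6], [7, 1], [6, 2, 7], [6, 3, 7], [2, 7], [1, 0, 7], [1, 7, 1], [7, 3], [7, 0], [0, 7, 0], [3, 2, 7], [1, 7, 0], [7, 3, 2], [1, 7], [5, 1, 6], [0, 7, 2], [0, 7, 1], [6, 7, 2], [6, 0, 7, 2], [1, 5, 6], [3, 7], [5, 6, 3], [6, 7, 0], [0, 7], [1, 1, 7], [3, 1, 7], [3, 7, 0], [2, 7, 0], [6, 0, 7, 0], [5, 6, 0, 0], [7, 2, 2], [3, 3, 7]]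

/-- two points telling the conjugates apart -/
def clsPts : Nat × Nat := (1, 2)

/-- the conjugate in a point stabiliser, in its generators -/
def p2 : List Nat := [2, 1, 0, 1, 1, 0, 2, 0]

/-- a conjugator -/
def h2 : List Nat := [0, 4, 1, 8, 3, 5]

/-- conjugators to the whole class -/
def cls2 : List (List Nat) := [[2, 2, 0], [0, 2, 0], [2, 1], [0, 1], [2], [2, 2], [], [0, 0, 1], [2, 0, 2, 0], [1, 2, 1], [0, 0], [1, 0, 0, 0], [2, 0], [1, 2], [1], [0, 0, 0], [0], [1, 0, 2, 0], [0, 2], [1, 1, 2]]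

/-- points telling the class apart -/
def clsPts2 : Nat × Nat := (0, 1)

/-- a subgroup of the centraliser: generators, elements, left multiplication, a point telling them apart -/
def sub2_2 : List (List Nat) × List (List Nat) × List (List Nat) × Nat := ([[2, 1, 2, 2], [2, 1, 1, 2, 1, 1]], [[], [2, 2, 1, 1, 2, 1, 2, 1, 1], [1, 2, 1, 1, 2, 1], [2, 2, 2, 2], [1, 0, 2, 0, 1, 0, 2, 0], [1, 1, 2, 1, 1, 2], [2, 0, 1, 0, 2, 0, 1, 0], [2, 1, 1, 2, 1, 1], [0, 2, 1, 1, 2, 1, 0, 0, 2], [2, 1, 1, 2, 2, 2, 1, 2], [2, 1, 2, 2], [0, 1, 1, 0, 0, 2], [1, 2, 2, 1, 2], [1, 1, 2, 2, 1, 2, 1], [1, 2, 1, 2, 2, 1], [2, 2, 1, 2, 1, 1]], [[10, 14, 15, 13, 8, 11, 12, 9, 1, 2, 6, 0, 3, 5, 7, 4], [7, 5, 6, 4, 0, 2, 1, 3, 12, 11, 15, 8, 9, 14, 10, 13]], 1)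

/-- a subgroup of the centraliser: generators, elements, left multiplication, a point telling them apart -/
def sub2_3 : List (List Nat) × List (List Nat) × List (List Nat) × Nat := ([[1, 0, 0, 1, 0, 0], [0, 0, 0, 0, 1, 0]], [[], [1, 0, 1, 1, 0, 1, 0, 0], [2, 2, 2, 2, 1, 0, 1, 0], [2, 1, 0, 1, 1, 0, 2, 0], [1, 1, 0, 1, 0, 0, 0], [1, 2, 2, 2, 0, 2], [1, 0, 0, 1, 0, 0], [0, 0, 0, 0, 1, 1, 0], [0, 0, 0, 0, 1, 0]], [[6, 3, 8, 7, 2, 0, 5, 1, 4], [8, 6, 3, 5, 1, 2, 4, 0, 7]], 0)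

/-- each element is trivial or fixed point free, or a conjugate -/
def syl2 : List (Bool × List Nat) := [(true, []), (true, []), (true, []), (false, []), (false, [1, 1, 2]), (true, []), (true, []), (true, []), (true, [])]

/-- the conjugate in a point stabiliser, in its generators -/
def p3 : List Nat := [0, 1]

/-- a conjugator -/
def h3 : List Nat := [5, 5, 0]

/-- conjugators to the whole class -/
def cls3 : List (List Nat) := [[0], []]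

/-- points telling the class apart -/
def clsPts3 : Nat × Nat := (0, 2)

/-- a subgroup of the centraliser: generators, elements, left multiplication, a point telling them apart -/
def sub3_2 : List (List Nat) × List (List Nat) × List (List Nat) × Nat := ([[2], [0, 0, 0, 0]], [[], [0, 0, 0, 0], [2], [2, 0, 0, 0, 0], [2, 2, 0, 0, 0, 0], [2, 2], [2, 2, 2], [0, 0, 0, 0, 2]], [[2, 3, 5, 4, 7, 6, 0, 1], [1, 0, 7, 6, 5, 4, 3, 2]], 2)

/-- a subgroup of the centraliser: generators, elements, left multiplication, a point telling them apart -/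
def sub3_3 : List (List Nat) × List (List Nat) × List (List Nat) × Nat := ([[1, 0], [2, 0, 0]], [[], [1, 0], [0, 1], [2, 1, 0, 0, 0], [1, 2, 2, 0, 2, 1, 0], [1, 2, 2, 0, 2], [2, 0, 0], [2, 2, 0, 0, 2], [2, 0, 1, 0, 0]], [[1, 2, 0, 8, 7, 4, 3, 5, 6], [6, 3, 8, 5, 2, 1, 7, 0, 4]], 2)

/-- each element is trivial or fixed point free, or a conjugate -/
def syl3 : List (Bool × List Nat) := [(true, []), (false, [0]), (false, []), (true, []), (true, []), (true, []), (true, []), (true, []), (true, [])]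

/-- a subgroup of the centraliser: generators, elements, left multiplication, a point telling them apart -/
def sub3_7 : List (List Nat) × List (List Nat) × List (List Nat) × Nat := ([[2, 0, 2, 0, 0, 0]], [[], [2, 2, 0, 2, 0, 2, 1, 1], [1, 1, 1, 2, 0, 2, 0, 1], [1, 1, 2, 0, 0, 0, 2, 0], [1, 1, 2, 0, 2, 1, 2, 1, 0], [2, 0, 2, 0, 0, 0], [2, 2, 2, 0, 2, 0, 2, 0, 0]], [[5, 6, 0, 2, 3, 1, 4]], 0)

/-- the conjugate in a point stabiliser, in its generators -/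
def p4 : List Nat := [0, 0]

/-- a conjugator -/
def h4 : List Nat := [1, 5, 3, 0]

/-- conjugators to the whole class -/
def cls4 : List (List Nat) := [[3, 2], [3], [0, 1], [0, 3], [3, 1], [], [2], [1], [4, 1], [4, 4, 4, 0, 3], [1, 3, 4, 0, 1], [1, 4, 4, 1], [2, 4, 0, 1], [3, 2, 4, 4, 1], [1, 3, 4, 2], [1, 4, 3], [4, 4, 1], [3, 4, 0, 1], [4, 3, 2], [3, 3, 4, 2], [4, 2, 4, 4, 1], [4, 4, 4, 0, 1], [4, 3], [3, 4, 2], [2, 4, 0, 3], [4, 4, 3], [1, 4, 0, 1], [4, 4, 2], [2, 1, 4, 2], [3, 4, 0, 3], [0, 1, 4, 1], [1, 4, 0, 3], [2, 3, 4, 0, 1], [2, 4, 4, 1], [4, 4, 3, 4, 2], [1, 4, 1], [2, 4, 4, 2], [2, 1, 4, 0, 1], [3, 1, 4, 1], [0, 3, 4, 4, 2], [3, 1, 4, 4, 1], [4, 3, 4, 2], [4, 2], [4, 4, 4, 3], [4, 4, 0, 1], [0, 3, 4, 0, 1], [0, 3, 4, 2], [4, 0, 3], [4, 4, 4, 1], [2, 4, 4, 0, 1], [4, 4, 0, 3], [3, 4, 4, 2], [1, 4, 2], [2, 3, 4, 0, 3], [1, 4, 3, 2], [4, 0, 1]]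

/-- points telling the class apart -/
def clsPts4 : Nat × Nat := (0, 4)

/-- a subgroup of the centraliser: generators, elements, left multiplication, a point telling them apart -/
def sub4_2 : List (List Nat) × List (List Nat) × List (List Nat) × Nat := ([[4]], [[], [4], [4, 4], [4, 4, 4]], [[1, 2, 3, 0]], 0)

/-- a subgroup of the centraliser: generators, elements, left multiplication, a point telling them apart -/
def sub4_3 : List (List Nat) × List (List Nat) × List (List Nat) × Nat := ([[0], [4, 3, 3], [3, 3, 4]], [[], [0], [0, 0], [4, 3, 3, 0], [4, 3, 3], [4, 3, 3, 0, 0], [4, 4, 1, 0, 1, 0], [3, 3, 4], [3, 1, 4, 3, 1], [1, 2, 1, 4, 4, 4, 0], [3, 3, 4, 0], [4, 3, 0, 2, 4, 3, 1], [4, 1, 0, 1, 4, 0], [4, 4, 1, 0, 1], [1, 2, 3, 4, 3, 0, 2, 0], [3, 3, 4, 0, 0], [4, 1, 0, 1, 4], [3, 2, 1, 3, 4, 4], [4, 3, 3, 4, 3, 3], [1, 0, 1, 4, 4], [1, 2, 1, 4, 4, 4], [1, 2,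 3, 4, 3, 0, 2], [1, 0, 1, 4, 4, 0], [4, 4, 4, 1, 2, 1, 0], [3, 3, 4, 4, 3, 3], [4, 4, 4, 1, 2, 1], [3, 3, 4, 3, 3, 4]], [[1, 2, 0, 5, 3, 4, 8, 10, 13, 18, 15, 21, 24, 6, 11, 7, 12, 19, 20, 22, 9, 14, 17, 26, 16, 23, 25], [4, 3, 5, 20, 18, 9, 21, 12, 14, 2, 24, 26, 19, 11, 23, 16, 17, 15, 0, 7, 1, 25, 10, 8, 22, 6, 13], [7, 10, 15, 16, 24, 12, 5, 26, 4, 22, 25, 9, 6, 3, 20, 23, 13, 21, 17, 14, 19, 18, 11, 2, 8, 1, 0]], 1)

/-- each element is trivial or fixed point free, or a conjugate -/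
def syl4 : List (Bool × List Nat) := [(true, []), (false, [3, 1]), (false, []), (true, []), (true, []), (true, []), (true, []), (true, []), (true, []), (true, []), (true, []), (true, []), (true, []), (true, []), (true, []), (true, []), (true, []), (true, []), (true, []), (true, []), (true, []), (true, []), (true, []), (true, []), (true, []), (true, []), (true, [])]

/-- the listed elements as products of the generators -/
def path2 : List (List Nat) := [[], [1, 1, 0], [1, 0, 0], [1, 1, 0, 0], [1, 0], [0, 0], [0], [1, 1], [1]]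

/-- positions of elements without fixed points, one for each class -/
def fpf2 : List Nat := [1, 5, 7]

/-- the listed elements as products of the generators -/
def path3 : List (List Nat) := [[], [0], [0, 0], [1, 0], [1, 1, 0, 0], [1, 1, 0], [1], [1, 1], [1, 0, 0]]

/-- positions of elements without fixed points, one for each class -/
def fpf3 : List Nat := [3, 5, 6]

/-- the listed elements as products of the generators -/
def path4 : List (List Nat) := [[], [0], [0, 0], [1, 0], [1], [1, 0, 0], [2, 1, 2], [2], [2, 2, 1], [1, 1, 0, 0], [2, 0], [2, 1, 2, 1], [1, 2], [1, 2, 2], [1, 2, 2, 1], [2, 0, 0], [2, 1, 0], [2, 1, 1], [1, 1], [1, 1, 2], [1, 1, 0], [2, 2, 1, 1], [1, 2, 1], [2, 2, 0, 0], [2, 1], [2, 2, 0], [2, 2]]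

/-- positions of elements without fixed points, one for each class -/
def fpf4 : List Nat := [3, 6, 7, 11]

/-- the five hundred normal forms in increasing order of their keys -/
def order500 : List Nat := [0, 382, 23, 461, 43, 481, 302, 20, 101, 263, 240, 22, 243, 2, 181, 220, 341, 403, 480, 262, 441, 80, 3, 362, 41, 103, 180, 462, 383, 142, 360, 221, 102, 343, 320, 281, 374, 115, 153, 392, 200, 82, 223, 161, 122, 201, 340, 363, 98, 39, 116, 277, 222, 301, 440, 463, 278, 396, 457, 219, 1, 422, 163, 140, 296, 357, 178, 119, 164, 287, 325, 346, 402, 120, 143, 81, 443, 420, 381, 202, 376, 437, 258, 299, 280, 141, 203, 62, 473, 194, 435, 112, 191, 429, 468, 50, 162, 380, 241, 303, 133, 372, 354, 195, 169, 331, 290, 108, 100, 61, 482, 123, 131, 408, 90, 469, 72, 395, 54, 333, 172, 433, 495, 154, 182, 261, 323, 300, 246, 187, 64, 225, 269, 208, 431, 390, 121, 283, 260,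 42, 489, 428, 151, 10, 250, 391, 168, 129, 17, 379, 338, 456, 217, 156, 38, 79, 85, 324, 6, 447, 63, 322, 401, 40, 483, 321, 460, 242, 29, 68, 291, 150, 361, 400, 282, 423, 83, 342, 60, 421, 160, 21, 183, 442, 92, 74, 315, 353, 476, 399, 358, 37, 327, 486, 465, 204, 427, 65, 304, 86, 174, 415, 192, 453, 11, 470, 349, 388, 276, 337, 199, 158, 127, 286, 4, 265, 498, 439, 177, 16, 18, 136, 59, 297, 365, 386, 227, 104, 274, 292, 15, 53, 350, 491, 229, 268, 455, 114, 493, 132, 179, 256, 317, 138, 46, 25, 487, 364, 35, 294, 212, 73, 175, 352, 113, 334, 213, 275, 452, 434, 432, 293, 255, 414, 117, 438, 56, 479, 5, 344, 26, 467, 110, 89, 28, 251, 70, 111, 488, 449, 198, 139, 377, 216, 152, 413, 475, 134, 71, 309, 348, 430, 285, 147, 206, 24, 335, 94, 373, 12, 33, 272, 254, 95, 144, 326, 305, 267, 478, 157, 96, 419, 19, 196, 257, 78, 448, 409, 30, 171, 66, 407, 45, 384, 231,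 8, 69, 190, 425, 264, 446, 387, 76, 137, 499, 458, 107, 266, 245, 84, 454, 472, 233, 295, 235, 494, 273, 412, 48, 130, 271, 9, 459, 418, 197, 36, 189, 210, 351, 128, 31, 308, 369, 490, 397, 159, 236, 118, 52, 313, 375, 34, 484, 166, 7, 145, 289, 310, 451, 228, 193, 155, 332, 314, 238, 356, 417, 279, 424, 106, 185, 47, 496, 378, 57, 319, 176, 99, 58, 237, 464, 146, 87, 125, 93, 214, 232, 55, 371, 148, 230, 109, 466, 284, 445, 307, 248, 330, 471, 209, 135, 394, 312, 173, 91, 450, 368, 329, 288, 411, 370, 249, 398, 416, 77, 339, 359, 318, 97, 436, 244, 367, 405, 426, 298, 316, 239, 477, 444, 105, 67, 126, 252, 75, 234, 13, 215, 253, 474, 492, 149, 270, 188, 311, 385, 247, 124, 306, 226, 167, 205, 44, 259, 497, 218, 336, 328, 389, 51, 410, 345, 184, 366, 207, 170, 49, 88, 211, 14, 393, 355, 32, 224, 485, 347, 406, 404, 27, 186, 165]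

end CfsgLib.Presented.Ly.ThreeCentData
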