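import Cfsg.Agent.Lib.Presented.Ly.ThreeCent.Eval
import Cfsg.Agent.Lib.Presented.Ly.ThreeCent.Data
import Mathlib.GroupTheory.SpecificGroups.Cyclic

/-!
The centralizer of an element of order 3 in G₂(5): order 378000, transitive on the 252 fixed points.
-/
set_option autoImplicit false
set_option maxRecDepth 100000
set_option Elab.async false

namespace CfsgLib.Presented.Ly.ThreeCent

open ThreeCentData (kx X fixPts gens tab path blk order500 cls clsPts)

/-- the element of order 3 -/
noncomputable def x : H5 := evW ev X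

/-- its centralizer -/
noncomputable def C0 : Subgroup H5 := Subgroup.centralizer ({x} : Set H5)

theorem X_eq : X = xWord kx ∧ ok X = true := by decide +kernel

theorem x_mem_K : x ∈ K := by
  rw [x, X_eq.1]
  exact mem_K kx

theorem x_cube : x ^ 3 = 1 := by
  have h := sameWord_sound (show sameWord (X ++ X ++ X) [] = true by decide +kernel)
  rwa [evW_append, evW_append, evW_nil, ← pow_three'] at h

theorem fix_table : fixIs X fixPts = true := by decide +kernel

theorem fix_iff (j : Fin NP) : phi x j = j ↔ (j : ℕ) ∈ fixPts := fixIs_spec fix_table j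

theorem x_ne : x ≠ 1 := by
  intro h
  have h1 : phi x (pt 1) = pt 1 := by rw [h, map_one, Equiv.Perm.one_apply]
  rw [fix_iff, pt_val (by decide +kernel)] at h1
  revert h1
  decide +kernel

theorem x_order : orderOf x = 3 :=
  haveI : Fact (Nat.Prime 3) := ⟨Nat.prime_three⟩
  orderOf_eq_prime x_cube x_ne

theorem mem_C0 {g : H5} : g ∈ C0 ↔ Commute g x := by
  rw [C0, Subgroup.mem_centralizer_singleton_iff]
  exact Iff.rfl

theorem x_mem : x ∈ C0 := mem_C0.2 (Commute.refl x)

/-- a fixed point -/
def fp (i : Fin 252) : Fin NP := pt (fixPts.getD i.val 0)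

theorem fixPts_ok : fixPts.length = 252 ∧ strictUp (fixPts.map Nat.succ) = true ∧
    (fixPts.all fun q => Nat.blt q NP) = true ∧ fixPts.getD 0 1 = 0 := by decide +kernel

theorem fn_lt (i : Fin 252) : fixPts.getD i.val 0 < NP := by
  have h := List.all_eq_true.1 fixPts_ok.2.2.1
  rw [List.getD_eq_getElem _ _ (fixPts_ok.1.symm ▸ i.2)]
  simpa [Nat.blt_eq] using h _ (List.getElem_mem _)

theorem fp_val (i : Fin 252) : (fp i : ℕ) = fixPts.getD i.val 0 := pt_val (fn_lt i)

theorem fp_injective : Function.Injective fp := by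
  intro i j h
  have h' : fixPts.getD i.val 0 = fixPts.getD j.val 0 := by rw [← fp_val, h, fp_val]
  have hi : i.val < fixPts.length := fixPts_ok.1.symm ▸ i.2
  have hj : j.val < fixPts.length := fixPts_ok.1.symm ▸ j.2
  rw [List.getD_eq_getElem _ _ hi, List.getD_eq_getElem _ _ hj] at h'
  have hnd : fixPts.Nodup := (nodup_of_strictUp fixPts_ok.2.1).of_map
  exact Fin.ext ((List.Nodup.getElem_inj_iff hnd).1 h')

theorem fix_iff' (j : Fin NP) : phi x j = j ↔ ∃ i, fp i = j := by
  rw [fix_iff]
  constructor
  · intro h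
    obtain ⟨k, hk, he⟩ := List.getElem_of_mem h
    refine ⟨⟨k, fixPts_ok.1 ▸ hk⟩, Fin.ext ?_⟩
    rw [fp_val, List.getD_eq_getElem _ _ hk, he]
  · rintro ⟨i, rfl⟩
    rw [fp_val, List.getD_eq_getElem _ _ (fixPts_ok.1.symm ▸ i.2)]
    exact List.getElem_mem _

theorem fp_zero : fp (Fin.ofNat 252 0) = pt0 := by
  rw [← pt_zero, fp]
  decide +kernel

theorem fix_map {g : H5} (hg : g ∈ C0) {j : Fin NP} (h : phi x j = j) : phi x (phi g j) = phi g j := by
  rw [← Equiv.Perm.mul_apply, ← map_mul, ← (mem_C0.1 hg).eq, map_mul, Equiv.Perm.mul_apply, h]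

/-- the numbered fixed points -/
noncomputable def numb : Fin 252 ≃ {j : Fin NP // phi x j = j} :=
  Equiv.ofBijective (fun i => ⟨fp i, (fix_iff' _).2 ⟨i, rfl⟩⟩)
    ⟨fun _ _ h => fp_injective (congrArg Subtype.val h),
      fun j => ((fix_iff' j.1).1 j.2).imp fun _ h => Subtype.ext h⟩

theorem exists_act (g : C0) (i : Fin 252) : ∃ i', fp i' = phi (g : H5) (fp i) :=
  (fix_iff' _).1 (fix_map g.2 ((fix_iff' _).2 ⟨i, rfl⟩))

/-- the image of a fixed point -/
noncomputable def actFun (g : C0) (i : Fin 252) : Fin 252 := (exists_act g i).choose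

theorem actFun_spec (g : C0) (i : Fin 252) : fp (actFun g i) = phi (g : H5) (fp i) := (exists_act g i).choose_spec

theorem actFun_mul (g h : C0) (i : Fin 252) : actFun (g * h) i = actFun g (actFun h i) :=
  fp_injective (by rw [actFun_spec, actFun_spec, actFun_spec, Subgroup.coe_mul, map_mul, Equiv.Perm.mul_apply])

theorem actFun_one (i : Fin 252) : actFun 1 i = i :=
  fp_injective (by rw [actFun_spec, Subgroup.coe_one, map_one, Equiv.Perm.one_apply])

/-! ### The six generators -/

theorem gens_ok : gens.length = 6 ∧ ∀ a : Fin 6, ok (gens.getD a.val []) = true ∧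
    sameWord (gens.getD a.val [] ++ X) (X ++ gens.getD a.val []) = true := by decide +kernel

theorem gens_mem : ∀ w ∈ gens, evW ev w ∈ C0 := by
  intro w hw
  obtain ⟨k, hk, rfl⟩ := List.getElem_of_mem hw
  have h := sameWord_sound (gens_ok.2 ⟨k, gens_ok.1 ▸ hk⟩).2
  rw [evW_append, evW_append, List.getD_eq_getElem _ _ hk] at h
  exact mem_C0.2 h

/-- the table of a generator -/
def tb (a : ℕ) (i : Fin 252) : Fin 252 := Fin.ofNat 252 ((tab.getD a []).getD i.val 0)

/-- the table of a product -/
def tbl (l : List ℕ) (i : Fin 252) : Fin 252 := l.foldr tb i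

/-- one table is right -/
noncomputable def tabOK (a : ℕ) : Bool :=
  (List.finRange 252).all fun i => Nat.beq (img (gens.getD a []) (fixPts.getD i.val 0)) (fixPts.getD (tb a i).val 0)

theorem tab_ok0 : tabOK 0 = true := by decide +kernel
theorem tab_ok1 : tabOK 1 = true := by decide +kernel
theorem tab_ok2 : tabOK 2 = true := by decide +kernel
theorem tab_ok3 : tabOK 3 = true := by decide +kernel
theorem tab_ok4 : tabOK 4 = true := by decide +kernel
theorem tab_ok5 : tabOK 5 = true := by decide +kernel

theorem gen_act {a : ℕ} (ha : a < 6) (i : Fin 252) : phi (evW ev (gens.getD a [])) (fp i) = fp (tb a i) := by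
  have h : tabOK a = true := by
    interval_cases a
    exacts [tab_ok0, tab_ok1, tab_ok2, tab_ok3, tab_ok4, tab_ok5]
  rw [fp, phi_pt (gens_ok.2 ⟨a, ha⟩).1 (fn_lt i),
    Nat.eq_of_beq_eq_true (List.all_eq_true.1 h i (List.mem_finRange i))]
  rfl

/-- the element of a list of generators -/
noncomputable def gEl (l : List ℕ) : C0 := ⟨evW ev (gW gens l), gW_mem gens_mem l⟩

theorem gEl_act : ∀ (l : List ℕ), (∀ a ∈ l, a < 6) → ∀ i, phi (gEl l : H5) (fp i) = fp (tbl l i)
  | [], _, i => by
    show phi (evW ev (gW gens [])) (fp i) = _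
    rw [gW, List.flatMap_nil, evW_nil, map_one, Equiv.Perm.one_apply]
    rfl
  | a :: l, h, i => by
    show phi (evW ev (gW gens (a :: l))) (fp i) = _
    rw [gW, List.flatMap_cons, evW_append, map_mul, Equiv.Perm.mul_apply]
    rw [show phi (evW ev (l.flatMap fun i => gens.getD i [])) (fp i) = fp (tbl l i) from
      gEl_act l (fun b hb => h b (List.mem_cons_of_mem _ hb)) i, gen_act (h a List.mem_cons_self)]
    rfl

theorem path_table : ((List.finRange 252).all fun i =>
    (path.getD i.val []).all (fun a => Nat.blt a 6) &&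
      Nat.beq (tbl (path.getD i.val []) (Fin.ofNat 252 0)).val i.val) = true := by decide +kernel

/-- an element carrying the base point to a fixed point -/
noncomputable def rep (i : Fin 252) : C0 := gEl (path.getD i.val [])

theorem rep_spec (i : Fin 252) : phi (rep i : H5) pt0 = fp i := by
  have h := List.all_eq_true.1 path_table i (List.mem_finRange i)
  simp only [Bool.and_eq_true, List.all_eq_true, Nat.blt_eq] at h
  rw [← fp_zero, rep, gEl_act _ h.1]
  exact congrArg fp (Fin.ext (Nat.eq_of_beq_eq_true h.2))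

/-! ### The stabiliser of the base point -/

/-- the centralizer in K -/
noncomputable def CK : Subgroup H5 := C0 ⊓ K

theorem mem_CK {g : H5} : g ∈ CK ↔ g ∈ C0 ∧ phi g pt0 = pt0 := and_congr_right fun _ => (stab_eq g).symm

/-- normal forms -/
def elL (q : ℕ) : List ℕ :=
  List.replicate (q / 100) 3 ++ List.replicate (q / 20 % 5) 4 ++ List.replicate (q / 4 % 5) 5 ++ List.replicate (q % 4) 2

/-- the key of a table -/
def tkey (l : List ℕ) : ℕ := 252 * (tbl l (Fin.ofNat 252 2)).val + (tbl l (Fin.ofNat 252 3)).val + 1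

theorem forms_ok : order500.length = 500 ∧ (order500.all fun q => Nat.blt q 500 &&
      (elL q).all (fun a => Nat.blt a 6) && Nat.beq (tbl (elL q) (Fin.ofNat 252 0)).val 0) = true ∧
    strictUp (order500.map fun q => tkey (elL q)) = true := by decide +kernel

/-- a normal form -/
def qf (p : Fin 500) : ℕ := order500.getD p.val 0

theorem qf_spec (p : Fin 500) : qf p < 500 ∧ (∀ a ∈ elL (qf p), a < 6) ∧
    tbl (elL (qf p)) (Fin.ofNat 252 0) = Fin.ofNat 252 0 := by
  have hm : qf p ∈ order500 := by
    rw [qf, List.getD_eq_getElem _ _ (forms_ok.1.symm ▸ p.2)]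
    exact List.getElem_mem _
  have h := List.all_eq_true.1 forms_ok.2.1 _ hm
  simp only [Bool.and_eq_true, List.all_eq_true, Nat.blt_eq] at h
  exact ⟨h.1.1, h.1.2, Fin.ext (Nat.eq_of_beq_eq_true h.2)⟩

theorem tkey_injective : Function.Injective fun p : Fin 500 => tkey (elL (qf p)) := by
  intro p q h
  have hp : p.val < (order500.map fun q => tkey (elL q)).length := by rw [List.length_map, forms_ok.1]; exact p.2
  have hq : q.val < (order500.map fun q => tkey (elL q)).length := by rw [List.length_map, forms_ok.1]; exact q.2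
  refine Fin.ext ((List.Nodup.getElem_inj_iff (nodup_of_strictUp forms_ok.2.2) (hi := hp) (hj := hq)).1 ?_)
  simp only [qf] at h
  rw [List.getD_eq_getElem _ _ (forms_ok.1.symm ▸ p.2), List.getD_eq_getElem _ _ (forms_ok.1.symm ▸ q.2)] at h
  simpa using h

theorem x_pow_mem (m : ℕ) : x ^ m ∈ C0 := C0.pow_mem x_mem m

theorem x_pow_fix (m : ℕ) (i : Fin 252) : phi (x ^ m) (fp i) = fp i := by
  induction m with
  | zero => rw [pow_zero, map_one, Equiv.Perm.one_apply]
  | succ m ih => rw [pow_succ, map_mul, Equiv.Perm.mul_apply, (fix_iff' _).2 ⟨i, rfl⟩, ih]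

/-- an element of the stabiliser -/
noncomputable def ckEl (p : Fin 500 × Fin 3) : CK :=
  ⟨(gEl (elL (qf p.1)) : H5) * x ^ p.2.val, mem_CK.2 ⟨C0.mul_mem (gEl _).2 (x_pow_mem _), by
    rw [← fp_zero, map_mul, Equiv.Perm.mul_apply, x_pow_fix, gEl_act _ (qf_spec p.1).2.1, (qf_spec p.1).2.2]⟩⟩

theorem ckEl_act (p : Fin 500 × Fin 3) (i : Fin 252) :
    phi (ckEl p : H5) (fp i) = fp (tbl (elL (qf p.1)) i) := by
  show phi ((gEl _ : H5) * x ^ _) (fp i) = _
  rw [map_mul, Equiv.Perm.mul_apply, x_pow_fix, gEl_act _ (qf_spec p.1).2.1]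

theorem ckEl_injective : Function.Injective ckEl := by
  intro p q h
  have h' : ∀ i, tbl (elL (qf p.1)) i = tbl (elL (qf q.1)) i := fun i =>
    fp_injective (by rw [← ckEl_act, h, ckEl_act])
  have h1 : p.1 = q.1 := tkey_injective (by simp only [tkey, h'])
  have e := congrArg Subtype.val h
  change (gEl (elL (qf p.1)) : H5) * x ^ p.2.val = (gEl (elL (qf q.1)) : H5) * x ^ q.2.val at e
  rw [h1] at e
  refine Prod.ext h1 (Fin.ext ?_)
  exact pow_injOn_Iio_orderOf (by rw [x_order]; exact p.2.2) (by rw [x_order]; exact q.2.2) (mul_left_cancel e)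

/-- conjugators in K -/
def kw (k : Fin 200) : List ℕ := xWord (cls.getD k.val [])

theorem cls_ok : cls.length = 200 ∧ (cls.all fun l => ok (xWord l)) = true := by decide +kernel

/-- the key of one conjugate -/
noncomputable def cKey (k : ℕ) : ℕ :=
  key (xWord (cls.getD k []) ++ X ++ invWord LyH.alphabet (xWord (cls.getD k []))) clsPts.1 clsPts.2

theorem cls_up0 : strictUp ((List.range 41).map fun k => cKey k) = true := by decide +kernel
theorem cls_up1 : strictUp ((List.range 41).map fun k => cKey (40 + k)) = true := by decide +kernel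
theorem cls_up2 : strictUp ((List.range 41).map fun k => cKey (80 + k)) = true := by decide +kernel
theorem cls_up3 : strictUp ((List.range 41).map fun k => cKey (120 + k)) = true := by decide +kernel
theorem cls_up4 : strictUp ((List.range 40).map fun k => cKey (160 + k)) = true := by decide +kernel

theorem chunk_lt {off len : ℕ} (h : strictUp ((List.range len).map fun k => cKey (off + k)) = true) {i : ℕ}
    (h1 : off ≤ i) (h2 : i + 1 < off + len) : cKey i < cKey (i + 1) := by
  have := List.pairwise_iff_getElem.1 (pairwise_of_up _ 0 h).1 (i - off) (i - off + 1)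
    (by rw [List.length_map, List.length_range]; omega) (by rw [List.length_map, List.length_range]; omega) (by omega)
  simp only [List.getElem_map, List.getElem_range] at this
  rwa [show off + (i - off) = i by omega, show off + (i - off + 1) = i + 1 by omega] at this

theorem cKey_lt {i : ℕ} (h : i + 1 < 200) : cKey i < cKey (i + 1) := by
  by_cases h0 : i < 40
  · exact chunk_lt (off := 0) (len := 41) (by simpa only [Nat.zero_add] using cls_up0) (Nat.zero_le i) (by omega)
  by_cases h1 : i < 80
  · exact chunk_lt cls_up1 (by omega) (by omega)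
  by_cases h2 : i < 120
  · exact chunk_lt cls_up2 (by omega) (by omega)
  by_cases h3 : i < 160
  · exact chunk_lt cls_up3 (by omega) (by omega)
  exact chunk_lt cls_up4 (by omega) (by omega)

theorem cKey_injective : Function.Injective fun k : Fin 200 => cKey k.val := by
  have hmono : ∀ d i, i + d + 1 < 200 → cKey i < cKey (i + d + 1) := by
    intro d
    induction d with
    | zero => exact fun i h => cKey_lt h
    | succ d ih => exact fun i h => (ih i (by omega)).trans (cKey_lt h)
  intro p q h
  have hlt : ∀ a b : Fin 200, a.val < b.val → cKey a.val < cKey b.val := fun a b hab => by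
    have := hmono (b.val - a.val - 1) a.val (by omega)
    rwa [show a.val + (b.val - a.val - 1) + 1 = b.val by omega] at this
  rcases lt_trichotomy p.val q.val with h1 | h1 | h1
  · exact absurd h (ne_of_lt (hlt p q h1))
  · exact Fin.ext h1
  · exact absurd h.symm (ne_of_lt (hlt q p h1))

theorem card_CK : Nat.card CK = 1500 := by
  refine le_antisymm ?_ ?_
  · have hinj : Function.Injective fun p : Fin 200 × CK =>
        (⟨evW ev (kw p.1) * (p.2 : H5), K.mul_mem (mem_K _) p.2.2.2⟩ : K) := by
      intro p q h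
      have e : evW ev (kw p.1) * (p.2 : H5) = evW ev (kw q.1) * (q.2 : H5) := congrArg Subtype.val h
      have hc : ∀ r : Fin 200 × CK, evW ev (kw r.1 ++ X ++ invWord LyH.alphabet (kw r.1)) =
          evW ev (kw r.1) * (r.2 : H5) * x * (evW ev (kw r.1) * (r.2 : H5))⁻¹ := fun r => by
        have hk : ok (kw r.1) = true := by
          have := List.all_eq_true.1 cls_ok.2 (cls.getD r.1.val [])
            (by rw [List.getD_eq_getElem _ _ (cls_ok.1.symm ▸ r.1.2)]; exact List.getElem_mem _)
          exact this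
        rw [evW_append, evW_append, evW_inv hk, mul_assoc (evW ev (kw r.1)) (r.2 : H5) x,
          (mem_C0.1 r.2.2.1).eq, mul_inv_rev, ← mul_assoc, ← mul_assoc, mul_inv_cancel_right]
        rfl
      have hok : ∀ r : Fin 200, ok (kw r ++ X ++ invWord LyH.alphabet (kw r)) = true := fun r => by
        have hk : ok (kw r) = true := List.all_eq_true.1 cls_ok.2 (cls.getD r.val [])
          (by rw [List.getD_eq_getElem _ _ (cls_ok.1.symm ▸ r.2)]; exact List.getElem_mem _)
        simp only [ok, List.all_append, Bool.and_eq_true]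
        refine ⟨⟨hk, X_eq.2⟩, ?_⟩
        rw [List.all_eq_true]
        exact fun y hy => by rw [Nat.blt_eq]; exact invWord_lt (lt_of_ok hk) y hy
      have hb : clsPts.1 < NP ∧ clsPts.2 < NP := by decide +kernel
      have h1 : p.1 = q.1 := cKey_injective (key_eq (hok p.1) (hok q.1) hb.1 hb.2 (by rw [hc, hc, e]))
      rw [h1] at e
      exact Prod.ext h1 (Subtype.ext (mul_left_cancel e))
    have := Nat.card_le_card_of_injective _ hinj
    rw [Nat.card_prod, Nat.card_fin, card_K] at this
    omega
  · have := Nat.card_le_card_of_injective _ ckEl_injective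
    simpa using this

theorem ckEl_surjective : Function.Surjective ckEl :=
  ((Nat.bijective_iff_injective_and_card ckEl).2 ⟨ckEl_injective, by rw [card_CK]; simp⟩).2

theorem exists_coords (g : C0) : ∃ (i : Fin 252) (p : Fin 500 × Fin 3), (g : H5) = (rep i : H5) * (ckEl p : H5) := by
  obtain ⟨i, hi⟩ := exists_act g (Fin.ofNat 252 0)
  rw [fp_zero] at hi
  have hm : (rep i : H5)⁻¹ * (g : H5) ∈ CK := mem_CK.2 ⟨C0.mul_mem (C0.inv_mem (rep i).2) g.2, by
    rw [map_mul, Equiv.Perm.mul_apply, ← hi, ← rep_spec, map_inv, Equiv.Perm.inv_def, Equiv.symm_apply_apply]⟩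
  obtain ⟨p, hp⟩ := ckEl_surjective ⟨_, hm⟩
  exact ⟨i, p, by rw [hp]; exact (mul_inv_cancel_left _ _).symm⟩

theorem card_C0 : Nat.card C0 = 378000 := by
  let f : Fin 252 × (Fin 500 × Fin 3) → C0 := fun r => ⟨(rep r.1 : H5) * (ckEl r.2 : H5), C0.mul_mem (rep r.1).2 (ckEl r.2).2.1⟩
  have hinj : Function.Injective f := by
    intro r s h
    have e : (rep r.1 : H5) * (ckEl r.2 : H5) = (rep s.1 : H5) * (ckEl s.2 : H5) := congrArg Subtype.val h
    have h0 : ∀ r : Fin 252 × (Fin 500 × Fin 3), phi ((rep r.1 : H5) * (ckEl r.2 : H5)) pt0 = fp r.1 := fun r => by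
      rw [map_mul, Equiv.Perm.mul_apply, (mem_CK.1 (ckEl r.2).2).2, rep_spec]
    have h1 : r.1 = s.1 := fp_injective (by rw [← h0, e, h0])
    rw [h1] at e
    exact Prod.ext h1 (ckEl_injective (Subtype.ext (mul_left_cancel e)))
  have hsurj : Function.Surjective f := fun g => by
    obtain ⟨i, p, h⟩ := exists_coords g
    exact ⟨(i, p), Subtype.ext h.symm⟩
  rw [← Nat.card_congr (Equiv.ofBijective f ⟨hinj, hsurj⟩)]
  simp

end CfsgLib.Presented.Ly.ThreeCent
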