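import Cfsg.Agent.Lib.Presented.Ly.ThreeCent.Local

/-! Kernel checks inside the point stabilisers (CertB). -/
set_option autoImplicit false
set_option maxRecDepth 100000
set_option Elab.async false

namespace CfsgLib.Presented.Ly.ThreeCent

open ThreeCentData
open Dce (S2_3 S3_3 S4_5)

theorem cls3_ok : clsOK S3_3 P3w cls3 clsPts3 = true := by decide +kernel
theorem sub32_ok : subOK S3_3 P3w sub3_2 = true := by decide +kernel
theorem sub33_ok : subOK S3_3 P3w sub3_3 = true := by decide +kernel
theorem sub37_ok : subOK S3_3 P3w sub3_7 = true := by decide +kernel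
theorem syl3_ok : sylOK S3_3 P3w sub3_3 path3 fpf3 syl3 = true := by decide +kernel
theorem cls4_ok : clsOK S4_5 P4w cls4 clsPts4 = true := by decide +kernel
theorem sub42_ok : subOK S4_5 P4w sub4_2 = true := by decide +kernel

end CfsgLib.Presented.Ly.ThreeCent
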