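import Cfsg.Agent.Lib.Presented.Ly.ThreeCent.Local

/-! Kernel checks inside the point stabilisers (CertC). -/
set_option autoImplicit false
set_option maxRecDepth 100000
set_option Elab.async false

namespace CfsgLib.Presented.Ly.ThreeCent

open ThreeCentData
open Dce (S2_3 S3_3 S4_5)

theorem sub43_ok : subOK S4_5 P4w sub4_3 = true := by decide +kernel

end CfsgLib.Presented.Ly.ThreeCent
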