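import Cfsg.Agent.Lib.Presented.Ly.ThreeCent.Local

/-! Kernel checks inside the point stabilisers (CertD). -/
set_option autoImplicit false
set_option maxRecDepth 100000
set_option Elab.async false

namespace CfsgLib.Presented.Ly.ThreeCent

open ThreeCentData
open Dce (S2_3 S3_3 S4_5)

theorem cls2_ok : clsOK S2_3 P2w cls2 clsPts2 = true := by decide +kernel
theorem sub23_ok : subOK S2_3 P2w sub2_3 = true := by decide +kernel
theorem syl2_ok : sylOK S2_3 P2w sub2_3 path2 fpf2 syl2 = true := by decide +kernel
theorem syl4_ok : sylOK S4_5 P4w sub4_3 path4 fpf4 syl4 = true := by decide +kernel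

end CfsgLib.Presented.Ly.ThreeCent
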