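import Cfsg.Agent.Lib.Presented.Ly.ThreeCent.Base
import Cfsg.Agent.Lib.Presented.Ly.CoverBase
import Mathlib.GroupTheory.Sylow
import Mathlib.Tactic.NormNum.Prime

/-!
The conjugates of the element of order 3 inside the stabilisers of the representatives of three suborbits: one class
each, with known centralizer orders.
-/
set_option autoImplicit false
set_option maxRecDepth 100000
set_option Elab.async false

namespace CfsgLib.Presented.Ly.ThreeCent

open ThreeCentData (X)
open scoped Pointwise

theorem gen_mem_wgrp {gens : List (List ℕ)} : ∀ w ∈ gens, evW ev w ∈ wgrp gens :=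
  fun w hw => Subgroup.subset_closure ⟨w, hw, rfl⟩

/-- the type of the data of a subgroup -/
abbrev SubData : Type := List (List ℕ) × List (List ℕ) × List (List ℕ) × ℕ

/-- the position of a product -/
def tabAt (d : SubData) (i a : ℕ) : ℕ := (d.2.2.1.getD i []).getD a 0

/-- the positions reached in some steps -/
noncomputable def grow (d : SubData) : ℕ → List ℕ
  | 0 => [0]
  | n + 1 => (List.range d.2.1.length).filter fun b =>
      (grow d n).any fun a => Nat.beq a b || (List.range d.1.length).any fun i => Nat.beq (tabAt d i a) b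

/-- the listed elements of a subgroup are right -/
noncomputable def subOK (gens : List (List ℕ)) (P : List ℕ) (d : SubData) : Bool :=
  (d.1.all fun g => sameWord (gW gens g ++ P) (P ++ gW gens g)) &&
  Nat.blt d.2.2.2 NP &&
  (d.2.1.getD 0 [0]).isEmpty &&
  (d.2.1.all fun l => ok (gW gens l)) &&
  strictUp (d.2.1.map fun l => key (gW gens l) d.2.2.2 d.2.2.2) &&
  ((List.range d.1.length).all fun i => (List.range d.2.1.length).all fun a =>
    Nat.blt (tabAt d i a) d.2.1.length &&
    sameWord (gW gens (d.1.getD i []) ++ gW gens (d.2.1.getD a []))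
      (gW gens (d.2.1.getD (tabAt d i a) []))) &&
  ((List.range d.2.1.length).all fun b => (grow d 8).any fun a => Nat.beq a b)

/-- the subgroup -/
noncomputable def subG (gens : List (List ℕ)) (d : SubData) : Subgroup H5 := wgrp (d.1.map fun g => gW gens g)

theorem subG_le {gens : List (List ℕ)} {d : SubData} : subG gens d ≤ wgrp gens := by
  rw [subG, wgrp, Subgroup.closure_le]
  rintro _ ⟨w, hw, rfl⟩
  obtain ⟨l, -, rfl⟩ := List.mem_map.1 hw
  exact gW_mem gen_mem_wgrp l

theorem subG_comm {gens : List (List ℕ)} {P : List ℕ} {d : SubData} (h : subOK gens P d = true) :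
    subG gens d ≤ Subgroup.centralizer ({evW ev P} : Set H5) := by
  simp only [subOK, Bool.and_eq_true, List.all_eq_true] at h
  rw [subG, wgrp, Subgroup.closure_le]
  rintro _ ⟨w, hw, rfl⟩
  obtain ⟨l, hl, rfl⟩ := List.mem_map.1 hw
  have e := sameWord_sound (h.1.1.1.1.1.1 l hl)
  rw [evW_append, evW_append] at e
  rw [SetLike.mem_coe, Subgroup.mem_centralizer_singleton_iff]
  exact e

theorem subG_spec {gens : List (List ℕ)} {P : List ℕ} {d : SubData} (h : subOK gens P d = true) :
    (∀ u ∈ subG gens d, ∃ a < d.2.1.length, evW ev (gW gens (d.2.1.getD a [])) = u) ∧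
      Nat.card (subG gens d) = d.2.1.length := by
  classical
  simp only [subOK, Bool.and_eq_true, List.all_eq_true, List.any_eq_true, Nat.blt_eq, List.mem_range] at h
  obtain ⟨⟨⟨⟨⟨⟨-, hb⟩, hnil⟩, hok⟩, hup⟩, htab⟩, hgrow⟩ := h
  have h0 : d.2.1.getD 0 [0] = [] := List.isEmpty_iff.1 hnil
  have hpos : 0 < d.2.1.length := by
    by_contra hc
    rw [List.getD_eq_default _ _ (by omega)] at h0
    exact absurd h0 (List.cons_ne_nil _ _)
  let el : ℕ → H5 := fun a => evW ev (gW gens (d.2.1.getD a []))
  have el0 : el 0 = 1 := by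
    show evW ev (gW gens (d.2.1.getD 0 [])) = 1
    rw [List.getD_eq_getElem _ _ hpos, ← List.getD_eq_getElem _ [0] hpos, h0]
    rfl
  have hmul : ∀ i < d.1.length, ∀ a < d.2.1.length,
      tabAt d i a < d.2.1.length ∧ evW ev (gW gens (d.1.getD i [])) * el a = el (tabAt d i a) := by
    intro i hi a ha
    obtain ⟨hlt, hsame⟩ := htab i hi a ha
    have e := sameWord_sound hsame
    rw [evW_append] at e
    exact ⟨hlt, e⟩
  let L : Set H5 := el '' {a | a < d.2.1.length}
  have hLfin : L.Finite := (Set.finite_lt_nat _).image _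
  have hle : subG gens d ≤ MulAction.stabilizer H5 L := by
    rw [subG, wgrp, Subgroup.closure_le]
    rintro _ ⟨w, hw, rfl⟩
    obtain ⟨g, hg, rfl⟩ := List.mem_map.1 hw
    obtain ⟨i, hi, rfl⟩ := List.getElem_of_mem hg
    rw [SetLike.mem_coe, MulAction.mem_stabilizer_iff]
    refine Set.eq_of_subset_of_ncard_le ?_ (le_of_eq (Set.ncard_smul_set _ _).symm) hLfin
    rintro _ ⟨_, ⟨a, ha, rfl⟩, rfl⟩
    obtain ⟨hlt, e⟩ := hmul i hi a ha
    rw [List.getD_eq_getElem _ _ hi] at e
    exact ⟨tabAt d i a, hlt, e.symm⟩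
  have hmem : ∀ u ∈ subG gens d, ∃ a < d.2.1.length, el a = u := by
    intro u hu
    have h1 : u • L = L := MulAction.mem_stabilizer_iff.1 (hle hu)
    have h2 : u ∈ L := by
      rw [← h1]
      exact ⟨1, ⟨0, hpos, el0⟩, mul_one u⟩
    exact h2
  have hgr : ∀ n, ∀ a ∈ grow d n, a < d.2.1.length ∧ el a ∈ subG gens d := by
    intro n
    induction n with
    | zero =>
      intro a ha
      rw [grow, List.mem_singleton] at ha
      subst ha
      exact ⟨hpos, el0.symm ▸ one_mem _⟩
    | succ n ih =>
      intro b hb'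
      rw [grow, List.mem_filter, List.mem_range, List.any_eq_true] at hb'
      obtain ⟨hblt, a, ha, hor⟩ := hb'
      refine ⟨hblt, ?_⟩
      rw [Bool.or_eq_true, List.any_eq_true] at hor
      rcases hor with he | ⟨i, hi, he⟩
      · rw [← Nat.eq_of_beq_eq_true he]
        exact (ih a ha).2
      · rw [List.mem_range] at hi
        obtain ⟨-, e⟩ := hmul i hi a (ih a ha).1
        rw [← Nat.eq_of_beq_eq_true he, ← e]
        refine mul_mem ?_ (ih a ha).2
        refine Subgroup.subset_closure ⟨_, List.mem_map_of_mem (List.getElem_mem hi), ?_⟩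
        rw [List.getD_eq_getElem _ _ hi]
  refine ⟨hmem, le_antisymm ?_ ?_⟩
  · let f : subG gens d → Fin d.2.1.length := fun u => ⟨(hmem u u.2).choose, (hmem u u.2).choose_spec.1⟩
    have hf : Function.Injective f := by
      intro u v e
      apply Subtype.ext
      rw [← (hmem u u.2).choose_spec.2, ← (hmem v v.2).choose_spec.2]
      exact congrArg el (congrArg Fin.val e)
    simpa using Nat.card_le_card_of_injective f hf
  · have hin : ∀ l ∈ d.2.1, evW ev (gW gens l) ∈ subG gens d := by
      intro l hl
      obtain ⟨b, hb', rfl⟩ := List.getElem_of_mem hl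
      obtain ⟨a, ha, he⟩ := hgrow b hb'
      have := (hgr 8 a ha).2
      rw [Nat.eq_of_beq_eq_true he] at this
      rw [← List.getD_eq_getElem _ [] hb']
      exact this
    have := card_ge (U := (subG gens d : Set H5)) (ws := d.2.1.map fun l => gW gens l) hb hb
      (fun w hw => by obtain ⟨l, hl, rfl⟩ := List.mem_map.1 hw; exact hok l hl)
      (fun w hw => by obtain ⟨l, hl, rfl⟩ := List.mem_map.1 hw; exact hin l hl)
      (by rw [List.map_map]; exact hup)
    simpa using this

/-- the position of the product of two listed elements -/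
def prodPos (d : SubData) (paths : List (List ℕ)) (a b : ℕ) : ℕ := (paths.getD a []).foldr (tabAt d) b

/-- the paths lead to the listed positions -/
def pathOK (d : SubData) (paths : List (List ℕ)) : Bool :=
  (List.range d.2.1.length).all fun a =>
    (paths.getD a []).all (fun i => Nat.blt i d.1.length) && Nat.beq (prodPos d paths a 0) a

/-- each listed element is trivial, or conjugate to one free of fixed points or to its inverse, or a listed conjugate -/
noncomputable def sylOK (gens : List (List ℕ)) (P : List ℕ) (d : SubData) (paths : List (List ℕ)) (fpf : List ℕ)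
    (syl : List (Bool × List ℕ)) : Bool :=
  pathOK d paths && (fpf.all fun r => Nat.blt r d.2.1.length && fixIs (gW gens (d.2.1.getD r [])) []) &&
  (List.range d.2.1.length).all fun a =>
    cond (syl.getD a (false, [])).1
      (Nat.beq a 0 || fpf.any fun r => (List.range d.2.1.length).any fun g =>
        Nat.beq (prodPos d paths a g) (prodPos d paths g r) || Nat.beq (prodPos d paths a (prodPos d paths g r)) g)
      (ok (gW gens (syl.getD a (false, [])).2) && sameWord (gW gens (d.2.1.getD a []))
        (gW gens (syl.getD a (false, [])).2 ++ P ++ invWord LyH.alphabet (gW gens (syl.getD a (false, [])).2)))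

theorem pos_mul {gens : List (List ℕ)} {P : List ℕ} {d : SubData} (h : subOK gens P d = true)
    {paths : List (List ℕ)} (hp : pathOK d paths = true) {a b : ℕ} (ha : a < d.2.1.length) (hb : b < d.2.1.length) :
    prodPos d paths a b < d.2.1.length ∧
      evW ev (gW gens (d.2.1.getD (prodPos d paths a b) [])) =
        evW ev (gW gens (d.2.1.getD a [])) * evW ev (gW gens (d.2.1.getD b [])) ∧
      evW ev (gW gens (d.2.1.getD 0 [])) = 1 := by
  simp only [subOK, Bool.and_eq_true, List.all_eq_true, Nat.blt_eq, List.mem_range] at h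
  obtain ⟨⟨⟨⟨⟨⟨-, -⟩, hnil⟩, -⟩, -⟩, htab⟩, -⟩ := h
  have hpos : 0 < d.2.1.length := lt_of_le_of_lt (Nat.zero_le a) ha
  have h0 : evW ev (gW gens (d.2.1.getD 0 [])) = 1 := by
    rw [List.getD_eq_getElem _ _ hpos, ← List.getD_eq_getElem _ [0] hpos, List.isEmpty_iff.1 hnil]
    rfl
  simp only [pathOK, Bool.and_eq_true, List.all_eq_true, Nat.blt_eq, List.mem_range] at hp
  obtain ⟨hl, he⟩ := hp a ha
  have key : ∀ l : List ℕ, (∀ i ∈ l, i < d.1.length) → ∀ c < d.2.1.length, l.foldr (tabAt d) c < d.2.1.length ∧
      evW ev (gW gens (d.2.1.getD (l.foldr (tabAt d) c) [])) =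
        (l.map fun i => evW ev (gW gens (d.1.getD i []))).prod * evW ev (gW gens (d.2.1.getD c [])) := by
    intro l
    induction l with
    | nil => exact fun _ c hc => ⟨hc, by simp⟩
    | cons i l ih =>
      intro hil c hc
      obtain ⟨hlt, e⟩ := ih (fun j hj => hil j (List.mem_cons_of_mem _ hj)) c hc
      obtain ⟨hlt', hs⟩ := htab i (hil i List.mem_cons_self) _ hlt
      have e' := sameWord_sound hs
      rw [evW_append, e] at e'
      refine ⟨hlt', ?_⟩
      rw [List.foldr_cons, ← e', List.map_cons, List.prod_cons, mul_assoc]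
  obtain ⟨hlt, e⟩ := key _ hl b hb
  obtain ⟨-, ea⟩ := key _ hl 0 hpos
  rw [show (paths.getD a []).foldr (tabAt d) 0 = a from Nat.eq_of_beq_eq_true he, h0, mul_one] at ea
  exact ⟨hlt, by rw [show prodPos d paths a b = (paths.getD a []).foldr (tabAt d) b from rfl, e, ea], h0⟩

/-- An element of order 3 with a fixed point lying in a group is conjugate there to the chosen one. -/
theorem class_conj {gens : List (List ℕ)} {P : List ℕ} {d : SubData} {syl : List (Bool × List ℕ)}
    {paths : List (List ℕ)} {fpf : List ℕ} {S : Subgroup H5} [Finite S] (hS : wgrp gens ≤ S) (hd : subOK gens P d = true)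
    (hcard : d.2.1.length = 3 ^ (Nat.card S).factorization 3)
    (hsyl : sylOK gens P d paths fpf syl = true) {y : H5} (hy : y ∈ S) (hy3 : y ^ 3 = 1) (hy1 : y ≠ 1) {j : Fin NP}
    (hj : phi y j = j) : ∃ s ∈ S, s * evW ev P * s⁻¹ = y := by
  haveI : Fact (Nat.Prime 3) := ⟨Nat.prime_three⟩
  obtain ⟨hels, hsz⟩ := subG_spec hd
  have hle : subG gens d ≤ S := subG_le.trans hS
  let Q : Sylow 3 S := Sylow.ofCard ((subG gens d).subgroupOf S)
    (by rw [Nat.card_congr (Subgroup.subgroupOfEquivOfLe hle).toEquiv, hsz, hcard])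
  have hpg : IsPGroup 3 (Subgroup.zpowers (⟨y, hy⟩ : S)) := by
    refine IsPGroup.of_card (n := 1) ?_
    rw [Nat.card_zpowers, pow_one]
    exact orderOf_eq_prime (Subtype.ext hy3) fun h => hy1 (congrArg Subtype.val h)
  obtain ⟨R, hR⟩ := hpg.exists_le_sylow
  obtain ⟨g, hg⟩ := MulAction.exists_smul_eq S R Q
  have hmem : g * ⟨y, hy⟩ * g⁻¹ ∈ (Q : Subgroup S) := by
    rw [← hg, Sylow.coe_subgroup_smul, Subgroup.mem_pointwise_smul_iff_inv_smul_mem]
    show (MulAut.conj g)⁻¹ • (g * ⟨y, hy⟩ * g⁻¹) ∈ (R : Subgroup S)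
    rw [MulAut.smul_def, MulAut.conj_inv_apply]
    convert hR (Subgroup.mem_zpowers _) using 1
    group
  have hmem' : (g : H5) * y * (g : H5)⁻¹ ∈ subG gens d := hmem
  obtain ⟨a, ha, he⟩ := hels _ hmem'
  simp only [sylOK, Bool.and_eq_true] at hsyl
  obtain ⟨⟨hpath, hfpf⟩, hall⟩ := hsyl
  have hq := List.all_eq_true.1 hall a (List.mem_range.2 ha)
  cases hb : (syl.getD a (false, [])).1
  · rw [hb, cond_false, Bool.and_eq_true] at hq
    obtain ⟨hok, hsame⟩ := hq
    have e := sameWord_sound hsame
    rw [evW_append, evW_append, evW_inv hok, he] at e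
    refine ⟨(g : H5)⁻¹ * evW ev (gW gens (syl.getD a (false, [])).2),
      S.mul_mem (S.inv_mem g.2) (hS (gW_mem gen_mem_wgrp _)), ?_⟩
    rw [show y = (g : H5)⁻¹ * ((g : H5) * y * (g : H5)⁻¹) * g by group, e]
    group
  · exfalso
    rw [hb, cond_true, Bool.or_eq_true] at hq
    rcases hq with hq | hq
    · rw [Nat.eq_of_beq_eq_true hq, (pos_mul hd hpath ha ha).2.2] at he
      refine hy1 ?_
      have h1 : (g : H5) * y * (g : H5)⁻¹ = 1 := he.symm
      rwa [mul_inv_eq_one, mul_eq_left] at h1
    · simp only [List.any_eq_true, List.mem_range, Bool.or_eq_true] at hq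
      obtain ⟨r, hr, c, hc, hrel⟩ := hq
      have hrf := List.all_eq_true.1 hfpf r hr
      rw [Bool.and_eq_true, Nat.blt_eq] at hrf
      set el : ℕ → H5 := fun b => evW ev (gW gens (d.2.1.getD b [])) with hel
      have hcr := pos_mul hd hpath hc hrf.1
      have hfix : phi (el a) (phi (g : H5) j) = phi (g : H5) j := by
        show phi (evW ev (gW gens (d.2.1.getD a []))) _ = _
        rw [he, map_mul, map_mul, Equiv.Perm.mul_apply, Equiv.Perm.mul_apply, map_inv, Equiv.Perm.inv_def,
          Equiv.symm_apply_apply, hj]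
      have hmv : phi (el r) (phi (el c)⁻¹ (phi (g : H5) j)) = phi (el c)⁻¹ (phi (g : H5) j) := by
        rcases hrel with hrel | hrel
        · have e2 : el a * el c = el c * el r := by
            have := congrArg el (Nat.eq_of_beq_eq_true hrel)
            rwa [show el (prodPos d paths a c) = el a * el c from (pos_mul hd hpath ha hc).2.1,
              show el (prodPos d paths c r) = el c * el r from hcr.2.1] at this
          rw [show el r = (el c)⁻¹ * el a * el c by rw [mul_assoc, e2, inv_mul_cancel_left], map_mul, map_mul,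
            Equiv.Perm.mul_apply, Equiv.Perm.mul_apply, map_inv, Equiv.Perm.inv_def, Equiv.apply_symm_apply, hfix]
        · have e2 : el a * (el c * el r) = el c := by
            have := congrArg el (Nat.eq_of_beq_eq_true hrel)
            rw [show el (prodPos d paths a (prodPos d paths c r)) = el a * el (prodPos d paths c r) from
              (pos_mul hd hpath ha hcr.1).2.1, show el (prodPos d paths c r) = el c * el r from hcr.2.1] at this
            exact this
          have e3 : phi (el a)⁻¹ (phi (g : H5) j) = phi (g : H5) j := by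
            rw [map_inv, Equiv.Perm.inv_def, Equiv.symm_apply_eq, hfix]
          rw [show el r = (el c)⁻¹ * (el a)⁻¹ * el c by
              conv_rhs => rw [mul_assoc]
              rw [eq_inv_mul_iff_mul_eq, eq_inv_mul_iff_mul_eq, e2], map_mul, map_mul,
            Equiv.Perm.mul_apply, Equiv.Perm.mul_apply, map_inv (f := phi) (a := el c), Equiv.Perm.inv_def,
            Equiv.apply_symm_apply, e3]
      exact List.not_mem_nil ((fixIs_spec hrf.2 _).1 hmv)

/-- the conjugates are distinct -/
noncomputable def clsOK (gens : List (List ℕ)) (P : List ℕ) (cs : List (List ℕ)) (pts : ℕ × ℕ) : Bool :=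
  Nat.blt pts.1 NP && Nat.blt pts.2 NP && ok P && (cs.all fun w => ok (gW gens w)) &&
    strictUp (cs.map fun w => key (gW gens w ++ P ++ invWord LyH.alphabet (gW gens w)) pts.1 pts.2)

theorem class_bound {gens : List (List ℕ)} {P : List ℕ} {cs : List (List ℕ)} {pts : ℕ × ℕ}
    {S : Subgroup H5} [Finite S] (hS : wgrp gens ≤ S) (h : clsOK gens P cs pts = true) :
    cs.length * Nat.card (S ⊓ Subgroup.centralizer {evW ev P} : Subgroup H5) ≤ Nat.card S := by
  simp only [clsOK, Bool.and_eq_true, List.all_eq_true, Nat.blt_eq] at h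
  obtain ⟨⟨⟨⟨h1, h2⟩, hP⟩, hok⟩, hup⟩ := h
  let f : Fin cs.length × (S ⊓ Subgroup.centralizer {evW ev P} : Subgroup H5) → S := fun q =>
    ⟨evW ev (gW gens cs[q.1]) * (q.2 : H5), S.mul_mem (hS (gW_mem gen_mem_wgrp _)) q.2.2.1⟩
  have hf : Function.Injective f := by
    intro q r e
    have e' : evW ev (gW gens cs[q.1]) * (q.2 : H5) = evW ev (gW gens cs[r.1]) * (r.2 : H5) :=
      congrArg Subtype.val e
    have hw : ∀ q : Fin cs.length × (S ⊓ Subgroup.centralizer {evW ev P} : Subgroup H5),
        evW ev (gW gens cs[q.1] ++ P ++ invWord LyH.alphabet (gW gens cs[q.1])) =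
          evW ev (gW gens cs[q.1]) * (q.2 : H5) * evW ev P * (evW ev (gW gens cs[q.1]) * (q.2 : H5))⁻¹ := fun q => by
      have hc : (q.2 : H5) * evW ev P = evW ev P * (q.2 : H5) := Subgroup.mem_centralizer_singleton_iff.1 q.2.2.2
      have hk := hok cs[q.1] (List.getElem_mem q.1.2)
      rw [evW_append, evW_append, evW_inv hk, mul_assoc _ (q.2 : H5), hc]
      group
    have hokw : ∀ i : Fin cs.length, ok (gW gens cs[i] ++ P ++ invWord LyH.alphabet (gW gens cs[i])) = true := by
      intro i
      have hk := hok _ (List.getElem_mem i.2)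
      simp only [ok, List.all_append, Bool.and_eq_true]
      refine ⟨⟨hk, hP⟩, ?_⟩
      rw [List.all_eq_true]
      exact fun y hy => by rw [Nat.blt_eq]; exact invWord_lt (lt_of_ok hk) y hy
    have hk := key_eq (hokw q.1) (hokw r.1) h1 h2 (by rw [hw, hw, e'])
    have hi : q.1 = r.1 := by
      have a : (q.1 : ℕ) < (cs.map fun w => key (gW gens w ++ P ++ invWord LyH.alphabet (gW gens w)) pts.1 pts.2).length := by simp
      have b : (r.1 : ℕ) < (cs.map fun w => key (gW gens w ++ P ++ invWord LyH.alphabet (gW gens w)) pts.1 pts.2).length := by simp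
      exact Fin.ext ((List.Nodup.getElem_inj_iff (nodup_of_strictUp hup) (hi := a) (hj := b)).1 (by simpa using hk))
    refine Prod.ext hi (Subtype.ext ?_)
    simp only [hi] at e'
    exact mul_left_cancel e'
  simpa using Nat.card_le_card_of_injective f hf

theorem sub_dvd {gens : List (List ℕ)} {P : List ℕ} {d : SubData} {S : Subgroup H5}
    (hS : wgrp gens ≤ S) (hd : subOK gens P d = true) :
    d.2.1.length ∣ Nat.card (S ⊓ Subgroup.centralizer {evW ev P} : Subgroup H5) := by
  rw [← (subG_spec hd).2]
  exact Subgroup.card_dvd_of_le (le_inf (subG_le.trans hS) (subG_comm hd))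

/-! ### The three chosen conjugates -/

open ThreeCentData
open Dce (S2_3 S3_3 S4_5)

/-- the conjugate in the second stabiliser -/
def P2w : List ℕ := gW S2_3 p2
/-- the conjugate in the third stabiliser -/
def P3w : List ℕ := gW S3_3 p3
/-- the conjugate in the fourth stabiliser -/
def P4w : List ℕ := gW S4_5 p4

theorem conj_word {h P : List ℕ} (hh : ok h = true) (e : sameWord P (h ++ X ++ invWord LyH.alphabet h) = true) :
    evW ev P = evW ev h * x * (evW ev h)⁻¹ := by
  have := sameWord_sound e
  rwa [evW_append, evW_append, evW_inv hh] at this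

theorem p2_conj : evW ev P2w = evW ev h2 * x * (evW ev h2)⁻¹ := conj_word (by decide +kernel) (by decide +kernel)
theorem p3_conj : evW ev P3w = evW ev h3 * x * (evW ev h3)⁻¹ := conj_word (by decide +kernel) (by decide +kernel)
theorem p4_conj : evW ev P4w = evW ev h4 * x * (evW ev h4)⁻¹ := conj_word (by decide +kernel) (by decide +kernel)

end CfsgLib.Presented.Ly.ThreeCent
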