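import Cfsg.Agent.Lib.Presented.Ly.Upper
import Cfsg.Agent.Lib.Presented.Ly.ThreeCent.CertA
import Cfsg.Agent.Lib.Presented.Ly.ThreeCent.CertB
import Cfsg.Agent.Lib.Presented.Ly.ThreeCent.CertC
import Cfsg.Agent.Lib.Presented.Ly.ThreeCent.CertD

/-!
The fixed cosets of the element of order 3, from the exact index: one orbit of its centraliser in G₂(5) inside each
suborbit, of sizes 252, 2625, 750 and 3500.
-/
set_option autoImplicit false
set_option maxRecDepth 100000

namespace CfsgLib.Presented.Ly.ThreeCent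

open Dce (P0 P1 P2 P3 P4)

/-- the stabiliser of a coset in G₂(5) -/
noncomputable def stab (P : XLy) : Subgroup H5 := (MulAction.stabilizer Cfsg.Spor.Ly P).comap toLy

theorem mem_stab {P : XLy} {g : H5} : g ∈ stab P ↔ toLy g • P = P := Iff.rfl

theorem wgrp_le {gens : List (List ℕ)} {P : XLy} (hP : Fix gens P) : wgrp gens ≤ stab P := wgrp_fix hP

theorem orb_card (P : XLy) : (orb P).ncard * Nat.card (stab P) = 5859000000 := by
  letI : MulAction H5 XLy := MulAction.compHom _ toLy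
  have e : MulAction.stabilizer H5 P = stab P := rfl
  have e' : MulAction.orbit H5 P = orb P := rfl
  have h := Subgroup.card_mul_index (MulAction.stabilizer H5 P)
  rw [MulAction.index_stabilizer, e, e', card_H5.1] at h
  rw [mul_comm]
  exact h

variable (hidx : toLy.range.index = 8835156)

include hidx in
theorem orbit_facts : ((orb P1).ncard = 19530 ∧ (orb P2).ncard = 2034375 ∧ (orb P3).ncard = 5812500 ∧
    (orb P4).ncard = 968750) ∧ Disjoint {P0} (orb P1) ∧ Disjoint ({P0} ∪ orb P1) (orb P2) ∧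
    Disjoint ({P0} ∪ orb P1 ∪ orb P2) (orb P3) ∧ Disjoint ({P0} ∪ orb P1 ∪ orb P2 ∪ orb P3) (orb P4) := by
  have h0 : ({P0} : Set XLy).Finite := Set.finite_singleton _
  have a1 := h0.union orb1_le.1
  have a2 := a1.union orb2_le.1
  have a3 := a2.union orb3_le.1
  have d1 := Set.ncard_union_add_ncard_inter ({P0} : Set XLy) (orb P1) h0 orb1_le.1
  have d2 := Set.ncard_union_add_ncard_inter ({P0} ∪ orb P1) (orb P2) a1 orb2_le.1
  have d3 := Set.ncard_union_add_ncard_inter ({P0} ∪ orb P1 ∪ orb P2) (orb P3) a2 orb3_le.1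
  have d4 := Set.ncard_union_add_ncard_inter ({P0} ∪ orb P1 ∪ orb P2 ∪ orb P3) (orb P4) a3 orb4_le.1
  rw [Set.ncard_singleton] at d1
  rw [← univ_eq, Set.ncard_univ, show Nat.card XLy = 8835156 from hidx] at d4
  have b1 := orb1_le.2
  have b2 := orb2_le.2
  have b3 := orb3_le.2
  have b4 := orb4_le.2
  have hdis : ∀ {s t : Set XLy}, s.Finite → (s ∩ t).ncard = 0 → Disjoint s t := fun {s t} hs h =>
    Set.disjoint_iff_inter_eq_empty.2 ((Set.ncard_eq_zero (hs.inter_of_left t)).1 h)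
  exact ⟨⟨by omega, by omega, by omega, by omega⟩, hdis h0 (by omega), hdis a1 (by omega), hdis a2 (by omega),
    hdis a3 (by omega)⟩

include hidx in
theorem toLy_injective : Function.Injective toLy := by
  rw [← MonoidHom.ker_eq_bot_iff]
  haveI := h5_simple
  refine (Subgroup.Normal.eq_bot_or_eq_top inferInstance).resolve_right fun h => ?_
  have e : orb P1 = {P1} := by
    ext p
    constructor
    · rintro ⟨g, rfl⟩
      show toLy g • P1 = P1
      rw [MonoidHom.mem_ker.1 (show g ∈ toLy.ker from h ▸ Subgroup.mem_top g), one_smul]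
    · rintro rfl
      exact ⟨1, by simp⟩
  have := (orbit_facts hidx).1.1
  rw [e, Set.ncard_singleton] at this
  omega

include hidx in
theorem card_Ly : Nat.card Cfsg.Spor.Ly = 51765179004000000 := by
  rw [← Subgroup.card_mul_index toLy.range, hidx,
    ← Nat.card_congr (MonoidHom.ofInjective (toLy_injective hidx)).toEquiv, card_H5.1]

include hidx in
theorem stab_card : Nat.card (stab P1) = 300000 ∧ Nat.card (stab P2) = 2880 ∧ Nat.card (stab P3) = 1008 ∧
    Nat.card (stab P4) = 6048 := by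
  obtain ⟨⟨e1, e2, e3, e4⟩, -⟩ := orbit_facts hidx
  have h1 := orb_card P1
  have h2 := orb_card P2
  have h3 := orb_card P3
  have h4 := orb_card P4
  rw [e1] at h1
  rw [e2] at h2
  rw [e3] at h3
  rw [e4] at h4
  omega

include hidx in
theorem stab_one : stab P1 = K := by
  refine (Subgroup.eq_of_le_of_card_ge (show K ≤ stab P1 from wgrp_le Dce.fix1) ?_).symm
  rw [(stab_card hidx).1, card_K]

/-! ### Fixed cosets in one suborbit -/

/-- the orbit of a coset under the centraliser in G₂(5) -/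
noncomputable def cOrb (P : XLy) : Set XLy := Set.range fun c : C0 => toLy (c : H5) • P

/-- what is needed about one suborbit -/
structure Sub (P : XLy) (h : H5) (m : ℕ) : Prop where
  mem : h * x * h⁻¹ ∈ stab P
  conj : ∀ g : H5, g * x * g⁻¹ ∈ stab P → ∃ s ∈ stab P, s * (h * x * h⁻¹) * s⁻¹ = g * x * g⁻¹
  card : Nat.card (stab P ⊓ Subgroup.centralizer {h * x * h⁻¹} : Subgroup H5) = m

theorem Sub.fixed {P : XLy} {h : H5} {m : ℕ} (hs : Sub P h m) : toLy x • toLy h⁻¹ • P = toLy h⁻¹ • P := by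
  have e := mem_stab.1 hs.mem
  rw [map_mul, map_mul, mul_smul, mul_smul] at e
  conv_rhs => rw [← e]
  rw [← mul_smul (toLy h⁻¹) (toLy h), ← map_mul, inv_mul_cancel, map_one, one_smul]

theorem Sub.fix_mem {P : XLy} {h : H5} {m : ℕ} (hs : Sub P h m) {p : XLy} (hp : p ∈ orb P)
    (hx : toLy x • p = p) : p ∈ cOrb (toLy h⁻¹ • P) := by
  obtain ⟨g, rfl⟩ := hp
  have hg : g⁻¹ * x * g⁻¹⁻¹ ∈ stab P := by
    rw [inv_inv, mem_stab, map_mul, map_mul, mul_smul, mul_smul, hx, ← mul_smul, ← map_mul, inv_mul_cancel,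
      map_one, one_smul]
  obtain ⟨s, hsm, e⟩ := hs.conj _ hg
  have hc : g * s * h ∈ C0 := by
    rw [mem_C0]
    show g * s * h * x = x * (g * s * h)
    calc g * s * h * x = g * (s * (h * x * h⁻¹) * s⁻¹) * s * h := by group
      _ = g * (g⁻¹ * x * g⁻¹⁻¹) * s * h := by rw [e]
      _ = x * (g * s * h) := by group
  refine ⟨⟨_, hc⟩, ?_⟩
  show toLy (g * s * h) • toLy h⁻¹ • P = toLy g • P
  rw [← mul_smul, ← map_mul, mul_inv_cancel_right, map_mul, mul_smul, mem_stab.1 hsm]

theorem Sub.ncard {P : XLy} {h : H5} {m : ℕ} (hs : Sub P h m) : (cOrb (toLy h⁻¹ • P)).ncard * m = 378000 := by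
  letI : MulAction C0 XLy := MulAction.compHom _ (toLy.comp C0.subtype)
  have e' : MulAction.orbit C0 (toLy h⁻¹ • P) = cOrb (toLy h⁻¹ • P) := rfl
  have hfix : ∀ c : H5, toLy c • toLy h⁻¹ • P = toLy h⁻¹ • P ↔ h * c * h⁻¹ ∈ stab P := by
    intro c
    rw [mem_stab, map_mul, map_mul, mul_smul, mul_smul]
    conv_rhs => rw [← eq_inv_smul_iff, ← map_inv]
  have hC : ∀ c : H5, h * c * h⁻¹ ∈ Subgroup.centralizer {h * x * h⁻¹} ↔ c ∈ C0 := by
    intro c
    rw [Subgroup.mem_centralizer_singleton_iff, mem_C0, Commute, SemiconjBy,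
      show h * c * h⁻¹ * (h * x * h⁻¹) = h * (c * x) * h⁻¹ by group,
      show h * x * h⁻¹ * (h * c * h⁻¹) = h * (x * c) * h⁻¹ by group, mul_left_inj, mul_right_inj]
  have e : Nat.card (MulAction.stabilizer C0 (toLy h⁻¹ • P)) = m := by
    rw [← hs.card]
    refine Nat.card_congr ⟨fun c => ⟨h * (c : C0) * h⁻¹, (hfix _).1 c.2, (hC _).2 c.1.2⟩,
      fun u => ⟨⟨h⁻¹ * (u : H5) * h, ?_⟩, ?_⟩, fun c => ?_, fun u => ?_⟩
    · refine (hC _).1 ?_
      rw [show h * (h⁻¹ * (u : H5) * h) * h⁻¹ = u by group]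
      exact u.2.2
    · refine (hfix _).2 ?_
      show h * (h⁻¹ * (u : H5) * h) * h⁻¹ ∈ stab P
      rw [show h * (h⁻¹ * (u : H5) * h) * h⁻¹ = u by group]
      exact u.2.1
    · apply Subtype.ext; apply Subtype.ext
      show h⁻¹ * (h * (c : C0) * h⁻¹) * h = _
      group
    · apply Subtype.ext
      show h * (h⁻¹ * (u : H5) * h) * h⁻¹ = _
      group
  have hh := Subgroup.card_mul_index (MulAction.stabilizer C0 (toLy h⁻¹ • P))
  rw [MulAction.index_stabilizer, e, e', card_C0] at hh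
  rw [mul_comm]
  exact hh

theorem x_moves {g : H5} : (g * x * g⁻¹) ^ 3 = 1 ∧ g * x * g⁻¹ ≠ 1 ∧
    phi (g * x * g⁻¹) (phi g (fp (Fin.ofNat 252 0))) = phi g (fp (Fin.ofNat 252 0)) := by
  refine ⟨by rw [conj_pow, x_cube, mul_one, mul_inv_cancel], fun h => x_ne (conj_eq_one_iff.1 h), ?_⟩
  rw [map_mul, map_mul, map_inv, Equiv.Perm.mul_apply, Equiv.Perm.mul_apply, Equiv.Perm.inv_def,
    Equiv.symm_apply_apply, (fix_iff' _).2 ⟨_, rfl⟩]

/-- a suborbit from the checks -/
theorem sub_of {gens : List (List ℕ)} {P : XLy} (hfix : Fix gens P) {W : List ℕ} {h : H5}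
    (hW : evW ev W = h * x * h⁻¹) (hWm : evW ev W ∈ wgrp gens) {N m : ℕ} (hN : Nat.card (stab P) = N)
    {cs : List (List ℕ)} {pts : ℕ × ℕ} (hcs : clsOK gens W cs pts = true) (hlen : cs.length * m = N)
    {d : SubData} (hd : subOK gens W d = true) (h3 : d.2.1.length = 3 ^ N.factorization 3)
    {paths : List (List ℕ)} {fpf : List ℕ} {syl : List (Bool × List ℕ)}
    (hsyl : sylOK gens W d paths fpf syl = true)
    (hdvd : m ∣ Nat.card (stab P ⊓ Subgroup.centralizer {evW ev W} : Subgroup H5)) :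
    Sub P h m := by
  have hS := wgrp_le hfix
  refine ⟨hW ▸ hS hWm, fun g hg => ?_, ?_⟩
  · obtain ⟨a, b, c⟩ := x_moves (g := g)
    rw [← hW]
    exact class_conj hS hd (hN ▸ h3) hsyl hg a b c
  · rw [← hW]
    have hb := class_bound hS hcs
    rw [hN, ← hlen] at hb
    rcases Nat.eq_zero_or_pos cs.length with hz | hz
    · rw [hz, zero_mul] at hlen
      exact absurd (hlen ▸ hN) (Nat.card_pos (α := stab P)).ne'
    exact le_antisymm (Nat.le_of_mul_le_mul_left hb hz) (Nat.le_of_dvd Nat.card_pos hdvd)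

open ThreeCentData

include hidx in
theorem sub1 : Sub P1 1 1500 := by
  have e : (1 : H5) * x * 1⁻¹ = x := by group
  refine ⟨?_, fun g hg => ?_, ?_⟩
  · rw [e, stab_one hidx]
    exact x_mem_K
  · rw [stab_one hidx] at hg ⊢
    have h1 := K_fix _ hg
    rw [map_mul, map_mul, map_inv, Equiv.Perm.mul_apply, Equiv.Perm.mul_apply, Equiv.Perm.inv_def,
      ← Equiv.eq_symm_apply] at h1
    obtain ⟨i, hi⟩ := (fix_iff' _).1 h1
    have hk : g * (rep i : H5) ∈ K := by
      rw [← stab_eq, map_mul, Equiv.Perm.mul_apply, rep_spec, hi, Equiv.apply_symm_apply]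
    refine ⟨_, hk, ?_⟩
    rw [e]
    calc g * (rep i : H5) * x * (g * (rep i : H5))⁻¹ = g * ((rep i : H5) * x) * (rep i : H5)⁻¹ * g⁻¹ := by group
      _ = g * (x * (rep i : H5)) * (rep i : H5)⁻¹ * g⁻¹ := by rw [(mem_C0.1 (rep i).2).eq]
      _ = g * x * g⁻¹ := by group
  · rw [e, stab_one hidx, ← card_CK, CK, inf_comm]
    rfl

theorem P2w_mem : evW ev P2w ∈ wgrp Dce.S2_3 := gW_mem gen_mem_wgrp _
theorem P3w_mem : evW ev P3w ∈ wgrp Dce.S3_3 := gW_mem gen_mem_wgrp _
theorem P4w_mem : evW ev P4w ∈ wgrp Dce.S4_5 := gW_mem gen_mem_wgrp _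

theorem fact_three (a b : ℕ) (hb : ¬ 3 ∣ b) : (3 ^ a * b).factorization 3 = a := by
  rw [Nat.factorization_mul (pow_ne_zero _ (by norm_num)) (fun h => hb (by rw [h]; exact dvd_zero 3))]
  simp [Nat.Prime.factorization_pow Nat.prime_three, Nat.factorization_eq_zero_of_not_dvd hb]

include hidx in
theorem sub2 : Sub P2 (evW ev h2) 144 :=
  sub_of Dce.fix2_3 p2_conj P2w_mem (stab_card hidx).2.1 cls2_ok (by decide +kernel) sub23_ok
    (by rw [show (2880 : ℕ) = 3 ^ 2 * 320 from rfl, fact_three 2 320 (by decide)]; decide +kernel) syl2_ok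
    (by
      have a := sub_dvd (wgrp_le Dce.fix2_3) sub22_ok
      have b := sub_dvd (wgrp_le Dce.fix2_3) sub23_ok
      rw [show sub2_2.2.1.length = 16 by decide +kernel] at a
      rw [show sub2_3.2.1.length = 9 by decide +kernel] at b
      exact (show Nat.Coprime 16 9 by decide).mul_dvd_of_dvd_of_dvd a b)

include hidx in
theorem sub3 : Sub P3 (evW ev h3) 504 :=
  sub_of Dce.fix3_3 p3_conj P3w_mem (stab_card hidx).2.2.1 cls3_ok (by decide +kernel) sub33_ok
    (by rw [show (1008 : ℕ) = 3 ^ 2 * 112 from rfl, fact_three 2 112 (by decide)]; decide +kernel) syl3_ok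
    (by
      have a := sub_dvd (wgrp_le Dce.fix3_3) sub32_ok
      have b := sub_dvd (wgrp_le Dce.fix3_3) sub33_ok
      have c := sub_dvd (wgrp_le Dce.fix3_3) sub37_ok
      rw [show sub3_2.2.1.length = 8 by decide +kernel] at a
      rw [show sub3_3.2.1.length = 9 by decide +kernel] at b
      rw [show sub3_7.2.1.length = 7 by decide +kernel] at c
      exact (show Nat.Coprime 72 7 by decide).mul_dvd_of_dvd_of_dvd
        ((show Nat.Coprime 8 9 by decide).mul_dvd_of_dvd_of_dvd a b) c)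

include hidx in
theorem sub4 : Sub P4 (evW ev h4) 108 :=
  sub_of Dce.fix4_5 p4_conj P4w_mem (stab_card hidx).2.2.2 cls4_ok (by decide +kernel) sub43_ok
    (by rw [show (6048 : ℕ) = 3 ^ 3 * 224 from rfl, fact_three 3 224 (by decide)]; decide +kernel) syl4_ok
    (by
      have a := sub_dvd (wgrp_le Dce.fix4_5) sub42_ok
      have b := sub_dvd (wgrp_le Dce.fix4_5) sub43_ok
      rw [show sub4_2.2.1.length = 4 by decide +kernel] at a
      rw [show sub4_3.2.1.length = 27 by decide +kernel] at b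
      exact (show Nat.Coprime 4 27 by decide).mul_dvd_of_dvd_of_dvd a b)

end CfsgLib.Presented.Ly.ThreeCent
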